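import Cfsg.Agent.CharDeep.DegreeBound

/-!
# Values of a character on an abelian subgroup (helper273, for S3510)

`abel_bound` : `ψ` a character of the abelian group `T` with `ψ = n ω` on the subgroup `Z` of index `m`, `ω` a linear
character of `Z`: outside `Z` the values of `ψ` are bounded by the norm `N` of `Ind ω - ψ`, an integer.
-/

set_option autoImplicit false

open Cfsg Cfsg.Agent.Characters.Core
open scoped ComplexConjugate

namespace Cfsg.Agent.H273.RC

variable {T : Type*} [Group T] [Fintype T]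

theorem irr_abel (hab : ∀ a b : T, a * b = b * a) {l : T → ℂ} (hl : IsIrrCharacter T l) :
    l 1 = 1 ∧ (∀ a b, l (a * b) = l a * l b) ∧ ∀ s, ‖l s‖ = 1 := by
  have hc : ∀ s : T, s ∈ Subgroup.center T := fun s => Subgroup.mem_center_iff.2 fun g => hab g s
  have h1 : ∀ s, ‖l s‖ = ‖l 1‖ := by
    intro s
    obtain ⟨w, hw, hw'⟩ := CharDeep.DegreeBound.exists_omega hl (hc s)
    have h2 := hw' 1
    rw [one_mul] at h2
    rw [h2, norm_mul, hw, one_mul]
  have h2 := CharDeep.DegreeBound.sum_sq_irr hl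
  rw [Finset.sum_congr rfl fun s _ => by rw [h1 s], Finset.sum_const, Finset.card_univ, nsmul_eq_mul,
    Nat.card_eq_fintype_card] at h2
  have hT : (Fintype.card T : ℝ) ≠ 0 := by exact_mod_cast Fintype.card_ne_zero
  have h3 : ‖l 1‖ ^ 2 = 1 := by
    have h4 : (Fintype.card T : ℝ) * ‖l 1‖ ^ 2 = Fintype.card T * 1 := by rw [h2, mul_one]
    exact mul_left_cancel₀ hT h4
  obtain ⟨n, hn, hn1⟩ := isIrr_apply_one hl
  have h5 : n = 1 := by
    rw [hn1, Complex.norm_natCast] at h3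
    have h6 : n ^ 2 = 1 := by exact_mod_cast h3
    nlinarith
  have h6 : l 1 = 1 := by rw [hn1, h5, Nat.cast_one]
  refine ⟨h6, fun a b => ?_, fun s => ?_⟩
  · obtain ⟨w, -, hw'⟩ := CharDeep.DegreeBound.exists_omega hl (hc b)
    have h7 := hw' 1
    rw [one_mul, h6, mul_one] at h7
    rw [hw' a, h7, mul_comm]
  · rw [h1, h6, norm_one]

/-- a class function with integral coefficients -/
theorem int_bound (hab : ∀ a b : T, a * b = b * a) {θ : T → ℂ}
    (h : ∀ l : T → ℂ, IsIrrCharacter T l → ∃ a : ℤ, classInner θ l = a) :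
    ∃ N : ℕ, classInner θ θ = N ∧ ∀ s, ‖θ s‖ ≤ N := by
  classical
  have := finite_irr (G := T)
  let _ := Fintype.ofFinite (IrrCharacter T)
  have hθ : IsClassFunction T θ := fun g x => by rw [hab x g, mul_inv_cancel_right]
  choose a ha using fun l : IrrCharacter T => h l l.2
  have h1 := classInner_eq_sum hθ hθ
  have h2 : classInner θ θ = ((∑ l : IrrCharacter T, (a l).natAbs ^ 2 : ℕ) : ℂ) := by
    rw [h1]
    push_cast
    refine Finset.sum_congr rfl fun l _ => ?_
    rw [ha l, map_intCast]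
    have h3 : (((a l).natAbs : ℤ)) ^ 2 = (a l) ^ 2 := by rw [Int.natAbs_sq]
    have h4 : (((a l).natAbs : ℂ)) = (((a l).natAbs : ℤ) : ℂ) := (Int.cast_natCast _).symm
    rw [h4, ← Int.cast_pow, h3, Int.cast_pow, pow_two]
  refine ⟨_, h2, fun s => ?_⟩
  have h3 : θ s = ∑ l : IrrCharacter T, (a l : ℂ) * (l : T → ℂ) s := by
    conv_lhs => rw [classFunction_eq_sum hθ]
    rw [Finset.sum_apply]
    exact Finset.sum_congr rfl fun l _ => by rw [Pi.smul_apply, smul_eq_mul, ha l]
  rw [h3]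
  refine (norm_sum_le _ _).trans ?_
  push_cast
  refine Finset.sum_le_sum fun l _ => ?_
  rw [norm_mul, (irr_abel hab l.2).2.2 s, mul_one, Complex.norm_intCast]
  have h5 : |(a l : ℝ)| = ((a l).natAbs : ℝ) := by
    rw [Nat.cast_natAbs, Int.cast_abs]
  rw [h5]
  exact_mod_cast Nat.le_self_pow two_ne_zero _

theorem sum_mult {Z : Subgroup T} {h : T → ℂ} (hm : ∀ a ∈ Z, ∀ b ∈ Z, h (a * b) = h a * h b) [DecidablePred (· ∈ Z)] :
    ∑ s : T, (if s ∈ Z then h s else 0) = 0 ∨ ∀ s ∈ Z, h s = 1 := by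
  classical
  by_cases hall : ∀ s ∈ Z, h s = 1
  · exact Or.inr hall
  · left
    push Not at hall
    obtain ⟨s0, hs0, hne⟩ := hall
    have h1 : ∑ s : T, (if s ∈ Z then h s else 0) = ∑ s : T, (if s0 * s ∈ Z then h (s0 * s) else 0) :=
      (Fintype.sum_equiv (Equiv.mulLeft s0) _ _ fun s => rfl).symm
    have h2 : ∑ s : T, (if s0 * s ∈ Z then h (s0 * s) else 0) = h s0 * ∑ s : T, (if s ∈ Z then h s else 0) := by
      rw [Finset.mul_sum]
      refine Finset.sum_congr rfl fun s _ => ?_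
      by_cases hs : s ∈ Z
      · rw [if_pos hs, if_pos (Z.mul_mem hs0 hs), hm s0 hs0 s hs]
      · rw [if_neg hs, if_neg (fun h => hs ((Z.mul_mem_cancel_left hs0).1 h)), mul_zero]
    rw [h2] at h1
    have h3 : (h s0 - 1) * ∑ s : T, (if s ∈ Z then h s else 0) = 0 := by
      rw [sub_mul, one_mul, ← h1, sub_self]
    exact (mul_eq_zero.1 h3).resolve_left (sub_ne_zero.2 hne)

/-- **bound for the values on an abelian group** -/
theorem abel_bound (hab : ∀ a b : T, a * b = b * a) (Z : Subgroup T) [DecidablePred (· ∈ Z)] {ψ : T → ℂ}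
    (hψ : IsCharacter T ψ) (ω : T → ℂ) (hω : ∀ a ∈ Z, ∀ b ∈ Z, ω (a * b) = ω a * ω b) (hn : ∀ a ∈ Z, ‖ω a‖ = 1)
    (n m : ℕ) (hψZ : ∀ z ∈ Z, ψ z = n * ω z) (hm : Nat.card T = m * Nat.card Z) :
    ∃ N : ℕ, (N : ℝ) * Nat.card T = Nat.card Z * ((m : ℝ) - n) ^ 2 + ∑ s : T, (if s ∈ Z then 0 else ‖ψ s‖ ^ 2) ∧
      ∀ s ∉ Z, ‖ψ s‖ ≤ N := by
  classical
  set f : T → ℂ := fun s => if s ∈ Z then m * ω s else 0 with hf
  have hT : (Nat.card T : ℂ) ≠ 0 := card_ne_zero_complex
  have hcoef : ∀ l : T → ℂ, IsIrrCharacter T l → ∃ a : ℤ, classInner (f - ψ) l = a := by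
    intro l hl
    obtain ⟨hl1, hlm, hln⟩ := irr_abel hab hl
    obtain ⟨b, hb⟩ := classInner_isNat hψ (isIrr_isCharacter hl)
    have h1 : ∃ a : ℤ, classInner f l = a := by
      have h2 : classInner f l = (Nat.card T : ℂ)⁻¹ * (m * ∑ s : T, (if s ∈ Z then ω s * conj (l s) else 0)) := by
        rw [classInner]
        congr 1
        rw [Finset.mul_sum]
        refine Finset.sum_congr rfl fun s _ => ?_
        by_cases hs : s ∈ Z
        · simp only [hf, if_pos hs]; ring
        · simp only [hf, if_neg hs]; ring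
      rcases sum_mult (Z := Z) (h := fun s => ω s * conj (l s)) (fun a ha b hb => by
        rw [hω a ha b hb, hlm, map_mul]; ring) with h3 | h3
      · exact ⟨0, by rw [h2, h3, mul_zero, mul_zero, Int.cast_zero]⟩
      · refine ⟨1, ?_⟩
        have h4 : ∑ s : T, (if s ∈ Z then ω s * conj (l s) else 0) = (Nat.card Z : ℂ) := by
          have h5 : ∀ s : T, (if s ∈ Z then ω s * conj (l s) else 0) = if s ∈ Z then (1 : ℂ) else 0 := by
            intro s
            by_cases hs : s ∈ Z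
            · rw [if_pos hs, if_pos hs]; exact h3 s hs
            · rw [if_neg hs, if_neg hs]
          rw [Finset.sum_congr rfl fun s _ => h5 s, Finset.sum_boole, Nat.card_eq_fintype_card, Fintype.card_subtype]
        rw [h2, h4, ← Nat.cast_mul, ← hm, inv_mul_cancel₀ hT, Int.cast_one]
    obtain ⟨a, ha⟩ := h1
    refine ⟨a - b, ?_⟩
    rw [classInner_sub_left, ha, hb]
    push_cast
    ring
  obtain ⟨N, hN, hb⟩ := int_bound hab hcoef
  refine ⟨N, ?_, fun s hs => ?_⟩
  · have h1 : classInner (f - ψ) (f - ψ) = (Nat.card T : ℂ)⁻¹ *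
        ((Nat.card Z * ((m : ℝ) - n) ^ 2 + ∑ s : T, (if s ∈ Z then 0 else ‖ψ s‖ ^ 2) : ℝ) : ℂ) := by
      rw [classInner]
      congr 1
      have h2 : ∀ s : T, (f - ψ) s * conj ((f - ψ) s) =
          (((if s ∈ Z then ((m : ℝ) - n) ^ 2 else 0) + (if s ∈ Z then 0 else ‖ψ s‖ ^ 2) : ℝ) : ℂ) := by
        intro s
        rw [Complex.mul_conj, Complex.normSq_eq_norm_sq]
        congr 1
        by_cases hs : s ∈ Z
        · have h3 : (f - ψ) s = ((m : ℂ) - n) * ω s := by
            simp only [hf, Pi.sub_apply, if_pos hs, hψZ s hs]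
            ring
          have h4 : ‖(m : ℂ) - n‖ ^ 2 = ((m : ℝ) - n) ^ 2 := by
            have h5 : (m : ℂ) - n = (((m : ℝ) - n : ℝ) : ℂ) := by push_cast; ring
            rw [h5, Complex.norm_real, Real.norm_eq_abs, sq_abs]
          rw [h3, norm_mul, hn s hs, mul_one, h4, if_pos hs, if_pos hs, add_zero]
        · simp only [hf, Pi.sub_apply, if_neg hs, zero_sub, norm_neg, zero_add]
      rw [Finset.sum_congr rfl fun s _ => h2 s, ← Complex.ofReal_sum, Finset.sum_add_distrib]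
      congr 2
      rw [← Finset.sum_filter, Finset.sum_const, nsmul_eq_mul, Nat.card_eq_fintype_card, Fintype.card_subtype]
    rw [hN] at h1
    have h2 : ((N : ℝ) * Nat.card T : ℂ) = ((Nat.card Z * ((m : ℝ) - n) ^ 2 +
        ∑ s : T, (if s ∈ Z then 0 else ‖ψ s‖ ^ 2) : ℝ) : ℂ) := by
      have h3 : ((N : ℝ) : ℂ) = (N : ℂ) := by push_cast; rfl
      rw [h3, h1]
      field_simp
    exact_mod_cast h2
  · have h1 := hb s
    have h2 : (f - ψ) s = -ψ s := by simp only [hf, Pi.sub_apply, if_neg hs, zero_sub]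
    rwa [h2, norm_neg] at h1

end Cfsg.Agent.H273.RC
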