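import Cfsg.Agent.H527.RC.FHB
import Cfsg.Agent.H822.Cls.Linear
import Cfsg.Agent.H158.Cls7
import Cfsg.Agent.Lib.SolvableNormalP

/-!
# S4191 (FHS): small solvable linear groups, the imprimitive data (helper273)
-/

set_option autoImplicit false
set_option linter.unusedSectionVars false

namespace Cfsg.Agent.H273.RC

open scoped Pointwise commutatorElement
open Cfsg.Agent.H527.RC Cfsg.Agent.H822.Cls Cfsg.Agent.H158.Cls7

universe u

/-- A solvable faithful irreducible group of order prime to `|V| - 1` is trivial. -/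
theorem trivial_of_cop {G V : Type u} [Group G] [Finite G] [Group.IsSolvable G] [AddCommGroup V] [Finite V]
    [DistribMulAction G V] (hf : ∀ g : G, (∀ v : V, g • v = v) → g = 1) (hirr : Irr G V)
    (h : ∀ r : ℕ, r.Prime → r ∣ Nat.card V - 1 → ¬ r ∣ Nat.card G) : Subsingleton G := by
  by_contra hG
  have hG' : Nontrivial G := not_subsingleton_iff_nontrivial.1 hG
  obtain ⟨r, N, hr, hN, hrN, _, hne⟩ := Lib.SolvableNormalP.exists_normal_pSubgroup G
  have hfr : Fact r.Prime := ⟨hr⟩
  let W : AddSubgroup V :=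
    { carrier := {v | ∀ g ∈ N, g • v = v}
      zero_mem' := fun g _ => smul_zero g
      add_mem' := fun {a b} ha hb g hg => by rw [smul_add, ha g hg, hb g hg]
      neg_mem' := fun {a} ha g hg => by rw [smul_neg, ha g hg] }
  have hW : ∀ g : G, ∀ w ∈ W, g • w ∈ W := by
    intro g w hw x hx
    have h1 := hw _ (hN.conj_mem x hx g⁻¹)
    rw [inv_inv, mul_smul, mul_smul] at h1
    exact (inv_smul_eq_iff.1 h1)
  rcases hirr W hW with h1 | h1
  · -- no fixed points
    have h2 : Nat.card V ≡ Nat.card (MulAction.fixedPoints N V) [MOD r] := hrN.card_modEq_card_fixedPoints V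
    have h3 : Nat.card (MulAction.fixedPoints N V) = 1 := by
      rw [Nat.card_eq_one_iff_unique]
      refine ⟨⟨fun a b => ?_⟩, ⟨⟨0, fun g => smul_zero g⟩⟩⟩
      have h4 : ∀ a : MulAction.fixedPoints N V, (a : V) = 0 := by
        intro a
        have : (a : V) ∈ W := fun g hg => a.2 ⟨g, hg⟩
        rwa [h1, AddSubgroup.mem_bot] at this
      exact Subtype.ext ((h4 a).trans (h4 b).symm)
    rw [h3] at h2
    have h4 : r ∣ Nat.card V - 1 := (Nat.modEq_iff_dvd' Nat.card_pos).1 h2.symm
    apply h r hr h4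
    obtain ⟨k, hk⟩ := IsPGroup.iff_card.1 hrN
    have hk0 : k ≠ 0 := by
      rintro rfl
      exact hne (Subgroup.card_eq_one.1 (by rw [hk, pow_zero]))
    exact ((dvd_pow_self r hk0).trans (hk ▸ dvd_rfl)).trans (Subgroup.card_subgroup_dvd_card N)
  · apply hne
    rw [eq_bot_iff]
    intro x hx
    rw [Subgroup.mem_bot]
    apply hf
    intro v
    have : v ∈ W := by rw [h1]; trivial
    exact this x hx

section

variable {L U : Type u} [Group L] [AddCommGroup U] [DistribMulAction L U] {X : Subgroup L} [Fintype (L ⧸ X)]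

theorem pi_out_self (S : Sys L U (L ⧸ X)) {v : U} (hv : v ∈ S.V) (i : L ⧸ X) :
    S.π i (i.out • v) = i.out • v := by
  have h1 : i.out • ((1 : L) : L ⧸ X) = i := by
    show ((i.out * 1 : L) : L ⧸ X) = i
    rw [mul_one]
    exact QuotientGroup.out_eq' i
  have h2 : i.out • v = S.π i (i.out • v) := by
    conv_lhs => rw [← (S.mem_V_iff v).1 hv]
    rw [S.eqv, h1]
  exact h2.symm

theorem pi_out_ne (S : Sys L U (L ⧸ X)) {v : U} (hv : v ∈ S.V) {i j : L ⧸ X} (h : j ≠ i) :
    S.π j (i.out • v) = 0 := by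
  rw [← pi_out_self S hv i]
  exact S.orth _ _ _ h

theorem card_sys [Finite U] (S : Sys L U (L ⧸ X)) : Nat.card U = Nat.card S.V ^ X.index := by
  classical
  let e : U → (L ⧸ X → S.V) := fun u i => ⟨(i.out)⁻¹ • S.π i u, S.out_inv_smul_mem i u⟩
  have he : Function.Bijective e := by
    constructor
    · intro a b hab
      rw [← S.sum a, ← S.sum b]
      apply Finset.sum_congr rfl
      intro i _
      have h1 := congrArg Subtype.val (congrFun hab i)
      exact smul_left_cancel _ h1
    · intro f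
      refine ⟨∑ i, i.out • (f i : U), ?_⟩
      funext j
      apply Subtype.ext
      show (j.out)⁻¹ • S.π j (∑ i, i.out • (f i : U)) = f j
      rw [map_sum, Finset.sum_eq_single j]
      · rw [pi_out_self S (f j).2, inv_smul_smul]
      · intro i _ hij
        rw [pi_out_ne S (f i).2 hij.symm]
      · intro h
        exact absurd (Finset.mem_univ j) h
  rw [Nat.card_congr (Equiv.ofBijective e he), Nat.card_fun, Subgroup.index]

theorem V_ne_bot [Nontrivial U] (S : Sys L U (L ⧸ X)) : Nontrivial S.V := by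
  obtain ⟨u, hu⟩ := S.ne_zero ((1 : L) : L ⧸ X)
  exact ⟨⟨⟨_, ⟨u, rfl⟩⟩, 0, fun h => hu (congrArg Subtype.val h)⟩⟩

/-- if the block stabiliser acts trivially on the block, then the module has prime order -/
theorem card_of_trivial [Finite U] [Nontrivial U] {q : ℕ} (hq : q.Prime) (hU : ∀ u : U, q • u = 0)
    (S : Sys L U (L ⧸ X)) (hirr : Irr L U) (h : ∀ x ∈ X, ∀ v ∈ S.V, x • v = v) : Nat.card U = q := by
  classical
  obtain ⟨v, hv0⟩ := @exists_ne _ (V_ne_bot S) (0 : S.V)
  have hv0' : (v : U) ≠ 0 := fun h => hv0 (Subtype.ext h)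
  set w : U := ∑ i : L ⧸ X, i.out • (v : U) with hw
  have hfix : ∀ g : L, g • w = w := by
    intro g
    rw [hw, Finset.smul_sum]
    apply Fintype.sum_equiv (MulAction.toPerm g)
    intro i
    have h1 : (g • i).out⁻¹ * (g * i.out) ∈ X := by
      rw [← QuotientGroup.eq, QuotientGroup.out_eq']
      show g • i = g • ((i.out : L) : L ⧸ X)
      rw [QuotientGroup.out_eq']
    have h2 := h _ h1 v v.2
    rw [mul_smul, inv_smul_eq_iff, mul_smul] at h2
    exact h2
  have hw0 : w ≠ 0 := by
    intro h0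
    have h1 : S.π ((1 : L) : L ⧸ X) w = 0 := by rw [h0, map_zero]
    rw [hw, map_sum, Finset.sum_eq_single ((1 : L) : L ⧸ X)] at h1
    · rw [pi_out_self S v.2] at h1
      exact hv0' ((smul_eq_zero_iff_eq _).1 h1)
    · intro i _ hi
      rw [pi_out_ne S v.2 hi.symm]
    · intro h
      exact absurd (Finset.mem_univ _) h
  have hz : AddSubgroup.zmultiples w = ⊤ := by
    rcases hirr (AddSubgroup.zmultiples w) (by
      rintro g _ ⟨n, rfl⟩
      refine ⟨n, ?_⟩
      show n • w = g • n • w
      rw [smul_comm g n w, hfix]) with h1 | h1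
    · exact absurd ((AddSubgroup.zmultiples_eq_bot).1 h1) hw0
    · exact h1
  have h1 : addOrderOf w = q := by
    have h2 : addOrderOf w ∣ q := addOrderOf_dvd_iff_nsmul_eq_zero.2 (hU w)
    rcases (Nat.dvd_prime hq).1 h2 with h3 | h3
    · exact absurd (AddMonoid.addOrderOf_eq_one_iff.1 h3) hw0
    · exact h3
  rw [← h1, ← Nat.card_zmultiples, hz]
  exact (Nat.card_congr AddSubgroup.topEquiv.toEquiv).symm

end

/-- The data of an imprimitive irreducible faithful module. -/
theorem imprim_data {L U : Type u} [Group L] [Finite L] [Group.IsSolvable L] [AddCommGroup U] [Finite U]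
    [Nontrivial U] [DistribMulAction L U] {q n : ℕ} (hq : q.Prime) (hU : ∀ u : U, q • u = 0)
    (hn : Nat.card U = q ^ n) (hf : ∀ g : L, (∀ u : U, g • u = u) → g = 1) (hirr : Irr L U) (hI : Imprim L U) :
    ∃ (m k : ℕ) (V : Type u) (_ : AddCommGroup V) (G : Type u) (_ : Group G) (_ : DistribMulAction G V),
      Finite V ∧ Nontrivial V ∧ Finite G ∧ Group.IsSolvable G ∧ (∀ v : V, q • v = 0) ∧ Nat.card V = q ^ k ∧
      m * k = n ∧ 2 ≤ m ∧ 1 ≤ k ∧ (∀ g : G, (∀ v : V, g • v = v) → g = 1) ∧ Irr G V ∧ m ∣ Nat.card L ∧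
      Nat.card G ∣ Nat.card L ∧ ¬ Subsingleton G ∧
      ∃ (Y : Type u) (_ : Group Y) (f : L →* Y), Nat.card f.range ∣ m.factorial ∧ ∀ t, FH t G → FH t f.ker := by
  classical
  obtain ⟨X, hX, hS⟩ := exists_coatom_sys hirr hI
  let _ : Fintype (L ⧸ X) := Fintype.ofFinite _
  obtain ⟨S⟩ := hS inferInstance
  let _ := S.act
  have hVn : Nontrivial S.V := V_ne_bot S
  have hcard := card_sys S
  have hm2 : 2 ≤ X.index := by
    have h1 : X.index ≠ 1 := fun h => hX.1 (Subgroup.index_eq_one.1 h)
    have h2 : X.index ≠ 0 := Subgroup.FiniteIndex.index_ne_zero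
    omega
  have hVq : ∀ v : S.V, q • v = 0 := fun v => Subtype.ext (hU v)
  obtain ⟨k, hk⟩ : ∃ k, Nat.card S.V = q ^ k := by
    have h1 : Nat.card S.V ∣ q ^ n := by rw [← hn]; exact AddSubgroup.card_addSubgroup_dvd_card _
    obtain ⟨k, _, hk⟩ := (Nat.dvd_prime_pow hq).1 h1
    exact ⟨k, hk⟩
  have hk1 : 1 ≤ k := by
    rcases Nat.eq_zero_or_pos k with h | h
    · exfalso
      rw [h, pow_zero] at hk
      have := Finite.one_lt_card (α := S.V)
      omega
    · exact h
  have hmk : X.index * k = n := by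
    rw [hk, ← pow_mul, hn] at hcard
    rw [mul_comm]
    exact (Nat.pow_right_injective hq.two_le hcard).symm
  have hfin : Finite (rng X S.V) := Finite.of_surjective _ pr_surjective
  have hsol : Group.IsSolvable (rng X S.V) := Group.isSolvable_of_surjective pr_surjective
  refine ⟨X.index, k, S.V, inferInstance, rng X S.V, inferInstance, inferInstance, inferInstance, hVn, hfin, hsol,
    hVq, hk, hmk, hm2, hk1, ?_, ?_, Subgroup.index_dvd_card X, ?_, ?_, ?_⟩
  · intro g hg
    apply Subtype.ext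
    apply Equiv.ext
    intro u
    exact hg u
  · intro W hW
    exact S.irr hirr W fun g w hw => hW (pr X S.V g) w hw
  · exact (Subgroup.card_dvd_of_surjective _ pr_surjective).trans (Subgroup.card_subgroup_dvd_card X)
  · intro hs
    have h1 : ∀ x ∈ X, ∀ v ∈ S.V, x • v = v := by
      intro x hx v hv
      have h2 : pr X S.V ⟨x, hx⟩ = 1 := hs.elim _ _
      have h3 : pr X S.V ⟨x, hx⟩ • (⟨v, hv⟩ : S.V) = ⟨v, hv⟩ := by rw [h2, one_smul]
      exact congrArg Subtype.val h3
    have h2 := card_of_trivial hq hU S hirr h1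
    rw [hn] at h2
    have h3 : n = 1 := by
      have : q ^ n = q ^ 1 := by rw [h2, pow_one]
      exact Nat.pow_right_injective hq.two_le this
    have h4 : 2 * 1 ≤ X.index * k := Nat.mul_le_mul hm2 hk1
    omega
  · refine ⟨ULift (Equiv.Perm (L ⧸ X)), inferInstance,
      MulEquiv.ulift.symm.toMonoidHom.comp (MulAction.toPermHom L (L ⧸ X)), ?_, ?_⟩
    · refine (Subgroup.card_subgroup_dvd_card _).trans ?_
      rw [Nat.card_congr Equiv.ulift, Nat.card_perm, Subgroup.index]
    · intro t ht
      have hker : ∀ x, x ∈ (MulEquiv.ulift.symm.toMonoidHom.comp (MulAction.toPermHom L (L ⧸ X))).ker →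
          ∀ g : L, g⁻¹ * x * g ∈ X := by
        intro x hx g
        have h1 : MulAction.toPermHom L (L ⧸ X) x = 1 := by
          have h2 : MulEquiv.ulift.symm (MulAction.toPermHom L (L ⧸ X) x) = 1 := hx
          exact (MulEquiv.map_eq_one_iff _).1 h2
        have h2 : x • ((g : L) : L ⧸ X) = ((g : L) : L ⧸ X) := Equiv.congr_fun h1 ((g : L) : L ⧸ X)
        have h3 : ((x * g : L) : L ⧸ X) = ((g : L) : L ⧸ X) := h2
        rw [eq_comm, QuotientGroup.eq] at h3
        rwa [mul_assoc]
      refine FH.of_family (ι := L) (Hs := fun _ => rng X S.V) (fun g => (pr X S.V).comp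
        (MonoidHom.mk' (fun x => ⟨g⁻¹ * x * g, hker x x.2 g⟩) ?_)) ?_ (fun _ => ht)
      · intro a b
        apply Subtype.ext
        show g⁻¹ * ((a : L) * (b : L)) * g = g⁻¹ * (a : L) * g * (g⁻¹ * (b : L) * g)
        group
      · intro x hx
        apply Subtype.ext
        apply hf
        intro u
        have h1 : ∀ (g : L) (v : U), v ∈ S.V → (g⁻¹ * (x : L) * g) • v = v := by
          intro g v hv
          have h2 : pr X S.V ⟨g⁻¹ * x * g, hker x x.2 g⟩ = 1 := hx g
          have h3 : pr X S.V ⟨g⁻¹ * x * g, hker x x.2 g⟩ • (⟨v, hv⟩ : S.V) = ⟨v, hv⟩ := by rw [h2, one_smul]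
          exact congrArg Subtype.val h3
        rw [← S.sum u, Finset.smul_sum]
        apply Finset.sum_congr rfl
        intro i _
        have h2 := h1 i.out _ (S.out_inv_smul_mem i u)
        rw [mul_smul, smul_inv_smul, mul_smul] at h2
        exact (smul_left_cancel _ h2)

end Cfsg.Agent.H273.RC
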