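import Cfsg.Agent.H273.RC.Prim
import Cfsg.Agent.H273.RC.ImpData

/-!
# S4191 (FHS): Fitting heights of small solvable linear groups (helper273)

* `fhs_odd` : odd order, `(q = 3, n ≤ 8)`, `(q = 5, n ≤ 4)` or `n ≤ 2` : Fitting height at most `2`;
* `fhs_three` : order prime to `3`, `(q = 2, n ≤ 12)` or `n ≤ 2` : Fitting height at most `3`.
-/

set_option autoImplicit false
set_option linter.unusedSectionVars false

namespace Cfsg.Agent.H273.RC

open scoped Pointwise commutatorElement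
open Cfsg.Agent.H527.RC Cfsg.Agent.H822.Cls

universe u

/-- groups of order dividing a power of two have Fitting height at most one -/
theorem fh_one_of_card {G : Type u} [Group G] [Finite G] {k : ℕ} (h : Nat.card G ∣ 2 ^ k) : FH 1 G := by
  rw [FH.one_iff]
  have : Fact (Nat.Prime 2) := ⟨Nat.prime_two⟩
  obtain ⟨j, _, hj⟩ := (Nat.dvd_prime_pow Nat.prime_two).1 h
  exact (IsPGroup.of_card hj).isNilpotent

theorem prime_dvd_two_pow {r k : ℕ} (hr : r.Prime) (h : r ∣ 2 ^ k) : r = 2 :=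
  (Nat.prime_dvd_prime_iff_eq hr Nat.prime_two).1 (hr.dvd_of_dvd_pow h)

/-- irreducible groups of odd order -/
theorem irr_odd {L U : Type u} [Group L] [Finite L] [Group.IsSolvable L] [AddCommGroup U] [Finite U]
    [Nontrivial U] [DistribMulAction L U] {q n : ℕ} (hq : q.Prime) (hU : ∀ u : U, q • u = 0)
    (hn : Nat.card U = q ^ n) (hf : ∀ g : L, (∀ u : U, g • u = u) → g = 1) (hirr : Irr L U)
    (hodd : Odd (Nat.card L)) (h : (q = 3 ∧ n ≤ 8) ∨ (q = 5 ∧ n ≤ 4) ∨ n ≤ 2) : FH 2 L := by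
  by_cases hI : Imprim L U
  · exfalso
    obtain ⟨m, k, V, _, G, _, _, hVf, hVn, hGf, hGs, hVq, hVk, hmk, hm, hk, hGfa, hGi, hmL, hGL, hGn, _⟩ :=
      imprim_data hq hU hn hf hirr hI
    apply hGn
    have h2 : ¬ 2 ∣ Nat.card L := fun h => (Nat.not_even_iff_odd.2 hodd) (even_iff_two_dvd.2 h)
    have hm2 : m ≠ 2 := by
      rintro rfl
      exact h2 hmL
    have hm3 : 3 ≤ m := by omega
    have h3k : 3 * k ≤ m * k := Nat.mul_le_mul_right k hm3
    have hpow : ∃ j, Nat.card V - 1 = 2 ^ j := by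
      rw [hVk]
      rcases h with ⟨rfl, h⟩ | ⟨rfl, h⟩ | h
      · have : k = 1 ∨ k = 2 := by omega
        rcases this with rfl | rfl
        · exact ⟨1, rfl⟩
        · exact ⟨3, rfl⟩
      · have : k = 1 := by omega
        subst this
        exact ⟨2, rfl⟩
      · omega
    obtain ⟨j, hj⟩ := hpow
    apply trivial_of_cop hGfa hGi
    intro r hr hrV hrG
    rw [hj] at hrV
    rw [prime_dvd_two_pow hr hrV] at hrG
    exact h2 (hrG.trans hGL)
  · exact prim_odd hq hU hn hf hirr hI hodd h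

/-- the imprimitive step in characteristic two -/
theorem imp_three {L U : Type u} [Group L] [Finite L] [Group.IsSolvable L] [AddCommGroup U] [Finite U]
    [Nontrivial U] [DistribMulAction L U] {n : ℕ} (hU : ∀ u : U, 2 • u = 0)
    (hn : Nat.card U = 2 ^ n) (hf : ∀ g : L, (∀ u : U, g • u = u) → g = 1) (hirr : Irr L U) (hI : Imprim L U)
    (h3 : ¬ 3 ∣ Nat.card L) (h : n ≤ 12) (t : ℕ)
    (IH : ∀ (G V : Type u) [Group G] [Finite G] [Group.IsSolvable G] [AddCommGroup V] [Finite V]
      [Nontrivial V] [DistribMulAction G V] (k : ℕ), (∀ v : V, 2 • v = 0) → Nat.card V = 2 ^ k →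
      (∀ g : G, (∀ v : V, g • v = v) → g = 1) → Irr G V → ¬ 3 ∣ Nat.card G → 3 ≤ k → 2 * k ≤ n → FH t G) :
    6 ≤ n ∧ FH (t + 1) L := by
  obtain ⟨m, k, V, _, G, _, _, hVf, hVn, hGf, hGs, hVq, hVk, hmk, hm, hk, hGfa, hGi, hmL, hGL, hGn, Y, _, f,
    hf1, hf2⟩ := imprim_data Nat.prime_two hU hn hf hirr hI
  have hG3 : ¬ 3 ∣ Nat.card G := fun h => h3 (h.trans hGL)
  have hk3 : 3 ≤ k := by
    by_contra hlt
    apply hGn
    apply trivial_of_cop hGfa hGi
    intro r hr hrV hrG
    rw [hVk] at hrV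
    have : k = 1 ∨ k = 2 := by omega
    rcases this with rfl | rfl
    · exact hr.one_lt.ne' (Nat.dvd_one.1 hrV)
    · have h1 : r = 3 := (Nat.prime_dvd_prime_iff_eq hr Nat.prime_three).1 hrV
      exact hG3 (h1 ▸ hrG)
  have hm3 : m ≠ 3 := by
    rintro rfl
    exact h3 hmL
  have hm4 : m ≤ 4 := by
    by_contra hlt
    have : 5 * 3 ≤ m * k := Nat.mul_le_mul (by omega) hk3
    omega
  have h2k : 2 * k ≤ n := by
    rw [← hmk]
    exact Nat.mul_le_mul_right k hm
  have hG : FH t G := IH G V k hVq hVk hGfa hGi hG3 hk3 h2k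
  refine ⟨by omega, ?_⟩
  have h5 : Nat.card f.range ∣ 2 ^ 3 := by
    have h6 : Nat.card f.range ∣ 24 := by
      have : m = 2 ∨ m = 4 := by omega
      rcases this with rfl | rfl
      · exact hf1.trans (by decide)
      · exact hf1
    have h7 : Nat.Coprime (Nat.card f.range) 3 := by
      rw [Nat.coprime_comm, Nat.prime_three.coprime_iff_not_dvd]
      exact fun h => h3 (h.trans (Subgroup.card_range_dvd f))
    exact h7.dvd_of_dvd_mul_right (by exact h6 : Nat.card f.range ∣ 2 ^ 3 * 3)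
  have : Finite f.range := Finite.of_surjective _ f.rangeRestrict_surjective
  exact FH.of_hom f (hf2 t hG) (fh_one_of_card h5)

/-- irreducible `3'`-groups in characteristic two -/
theorem irr_three_a {L U : Type u} [Group L] [Finite L] [Group.IsSolvable L] [AddCommGroup U] [Finite U]
    [Nontrivial U] [DistribMulAction L U] {n : ℕ} (hU : ∀ u : U, 2 • u = 0)
    (hn : Nat.card U = 2 ^ n) (hf : ∀ g : L, (∀ u : U, g • u = u) → g = 1) (hirr : Irr L U)
    (h3 : ¬ 3 ∣ Nat.card L) (h : n ≤ 3) : FH 1 L := by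
  by_cases hI : Imprim L U
  · exfalso
    have := (imp_three hU hn hf hirr hI h3 (by omega) 0 (by
      intro G V _ _ _ _ _ _ _ k _ _ _ _ _ h1 h2
      omega)).1
    omega
  · exact (prim_three hU hn hf hirr hI h3 (by omega)).2 h

theorem irr_three_b {L U : Type u} [Group L] [Finite L] [Group.IsSolvable L] [AddCommGroup U] [Finite U]
    [Nontrivial U] [DistribMulAction L U] {n : ℕ} (hU : ∀ u : U, 2 • u = 0)
    (hn : Nat.card U = 2 ^ n) (hf : ∀ g : L, (∀ u : U, g • u = u) → g = 1) (hirr : Irr L U)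
    (h3 : ¬ 3 ∣ Nat.card L) (h : n ≤ 6) : FH 2 L := by
  by_cases hI : Imprim L U
  · exact (imp_three hU hn hf hirr hI h3 (by omega) 1 (by
      intro G V _ _ _ _ _ _ _ k h1 h2 h3 h4 h5 h6 h7
      exact irr_three_a h1 h2 h3 h4 h5 (by omega))).2
  · exact (prim_three hU hn hf hirr hI h3 (by omega)).1

theorem irr_three {L U : Type u} [Group L] [Finite L] [Group.IsSolvable L] [AddCommGroup U] [Finite U]
    [Nontrivial U] [DistribMulAction L U] {n : ℕ} (hU : ∀ u : U, 2 • u = 0)
    (hn : Nat.card U = 2 ^ n) (hf : ∀ g : L, (∀ u : U, g • u = u) → g = 1) (hirr : Irr L U)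
    (h3 : ¬ 3 ∣ Nat.card L) (h : n ≤ 12) : FH 3 L := by
  by_cases hI : Imprim L U
  · exact (imp_three hU hn hf hirr hI h3 h 2 (by
      intro G V _ _ _ _ _ _ _ k h1 h2 h3 h4 h5 h6 h7
      exact irr_three_b h1 h2 h3 h4 h5 (by omega))).2
  · exact (prim_three hU hn hf hirr hI h3 h).1.succ

/-- a faithful group on a group of prime order is commutative -/
theorem comm_of_prime {G V : Type u} [Group G] [AddCommGroup V] [Finite V] [DistribMulAction G V] {q : ℕ}
    (hq : q.Prime) (hV : Nat.card V = q) (hf : ∀ g : G, (∀ v : V, g • v = v) → g = 1) (a b : G) : a * b = b * a := by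
  have hfq : Fact q.Prime := ⟨hq⟩
  have hc : IsAddCyclic V := isAddCyclic_of_prime_card hV
  obtain ⟨v, hv⟩ := hc.exists_generator
  obtain ⟨i, hi⟩ := hv (a • v)
  obtain ⟨j, hj⟩ := hv (b • v)
  have hi' : i • v = a • v := hi
  have hj' : j • v = b • v := hj
  have h1 : (b * a)⁻¹ * (a * b) = 1 := by
    apply hf
    intro w
    obtain ⟨k, rfl⟩ := hv w
    show ((b * a)⁻¹ * (a * b)) • (k • v) = k • v
    rw [mul_smul, inv_smul_eq_iff]
    have h2 : (a * b) • v = (b * a) • v := by
      rw [mul_smul, mul_smul, ← hi', ← hj', smul_comm a j v, smul_comm b i v, ← hi', ← hj', smul_comm j i v]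
    rw [smul_comm _ k v, smul_comm _ k v, h2]
  rw [inv_mul_eq_one] at h1
  exact h1.symm

/-- irreducible `3'`-groups in dimension at most two -/
theorem irr_three_two {L U : Type u} [Group L] [Finite L] [Group.IsSolvable L] [AddCommGroup U] [Finite U]
    [Nontrivial U] [DistribMulAction L U] {q n : ℕ} (hq : q.Prime) (hU : ∀ u : U, q • u = 0)
    (hn : Nat.card U = q ^ n) (hf : ∀ g : L, (∀ u : U, g • u = u) → g = 1) (hirr : Irr L U)
    (h3 : ¬ 3 ∣ Nat.card L) (h : n ≤ 2) : FH 3 L := by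
  by_cases hI : Imprim L U
  · obtain ⟨m, k, V, _, G, _, _, hVf, hVn, hGf, hGs, hVq, hVk, hmk, hm, hk, hGfa, hGi, hmL, hGL, hGn, Y, _, f,
      hf1, hf2⟩ := imprim_data hq hU hn hf hirr hI
    have h1 : 2 * k ≤ m * k := Nat.mul_le_mul_right k hm
    have h2 : m * 1 ≤ m * k := Nat.mul_le_mul_left m hk
    have hk1 : k = 1 := by omega
    have hm2 : m = 2 := by omega
    subst hk1 hm2
    rw [pow_one] at hVk
    have hG : FH 1 G := fh_one_of_comm (comm_of_prime hq hVk hGfa)
    have : Finite f.range := Finite.of_surjective _ f.rangeRestrict_surjective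
    have h5 : Nat.card f.range ∣ 2 ^ 1 := hf1
    exact (FH.of_hom f (hf2 1 hG) (fh_one_of_card h5)).succ
  · exact prim_three_two hq hU hn hf hirr hI h3 h

/-! ### composition factors -/

/-- the action on the quotient by an invariant subgroup -/
@[reducible] def quotAct {L U : Type u} [Group L] [AddCommGroup U] [DistribMulAction L U] (Y : AddSubgroup U)
    (hY : ∀ g : L, ∀ y ∈ Y, g • y ∈ Y) : DistribMulAction L (U ⧸ Y) where
  smul g := QuotientAddGroup.map Y Y (DistribSMul.toAddMonoidHom U g) (fun y hy => hY g y hy)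
  one_smul x := by
    obtain ⟨x, rfl⟩ := QuotientAddGroup.mk_surjective x
    exact congrArg _ (one_smul L x)
  mul_smul g h x := by
    obtain ⟨x, rfl⟩ := QuotientAddGroup.mk_surjective x
    exact congrArg _ (mul_smul g h x)
  smul_zero g := map_zero _
  smul_add g x y := map_add _ x y

/-- the action on an invariant subgroup -/
@[reducible] def subAct {L U : Type u} [Group L] [AddCommGroup U] [DistribMulAction L U] (Y : AddSubgroup U)
    (hY : ∀ g : L, ∀ y ∈ Y, g • y ∈ Y) : DistribMulAction L Y where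
  smul g y := ⟨g • (y : U), hY g y y.2⟩
  one_smul x := Subtype.ext (one_smul L (x : U))
  mul_smul g h x := Subtype.ext (mul_smul g h (x : U))
  smul_zero g := Subtype.ext (smul_zero g)
  smul_add g x y := Subtype.ext (smul_add g (x : U) (y : U))

/-- if the group `FH t` holds on all irreducible sections, then it holds modulo the unipotent elements -/
theorem exists_unip {L : Type u} [Group L] {q n t : ℕ} (hq : q.Prime)
    (H : ∀ (Y : Type u) [AddCommGroup Y] [Finite Y] [Nontrivial Y] [DistribMulAction L Y] (k : ℕ),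
      (∀ y : Y, q • y = 0) → Irr L Y → Nat.card Y = q ^ k → k ≤ n → FH t (rng L Y)) (N : ℕ) :
    ∀ (U : Type u) [AddCommGroup U] [Finite U] [DistribMulAction L U] (k : ℕ), (∀ u : U, q • u = 0) →
      Nat.card U = q ^ k → k ≤ n → Nat.card U ≤ N →
      ∃ R : Subgroup L, ∃ _ : R.Normal, FH t (L ⧸ R) ∧ ∀ g ∈ R, ∃ j : ℕ, ∀ u : U, g ^ q ^ j • u = u := by
  induction N with
  | zero =>
    intro U _ _ _ k _ _ _ hN
    have : 0 < Nat.card U := Nat.card_pos
    omega
  | succ N IH =>
    intro U _ _ _ k hU hk hkn hN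
    by_cases hirr : Irr L U
    · rcases subsingleton_or_nontrivial U with hs | hnt
      · refine ⟨⊤, inferInstance, ?_, fun g _ => ⟨0, fun u => hs.elim _ _⟩⟩
        have h1 : Subsingleton (L ⧸ (⊤ : Subgroup L)) := QuotientGroup.subsingleton_quotient_top
        exact FH.of_subsingleton _
      · refine ⟨(pr L U).ker, inferInstance, ?_, ?_⟩
        · exact FH.of_injective (QuotientGroup.kerLift (pr L U)) (QuotientGroup.kerLift_injective _)
            (H U k hU hirr hk hkn)
        · intro g hg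
          refine ⟨0, fun u => ?_⟩
          rw [pow_zero, pow_one]
          have h1 : pr L U g = 1 := hg
          have h2 : pr L U g • u = u := by rw [h1, one_smul]
          exact h2
    · have : ∃ Y : AddSubgroup U, (∀ g : L, ∀ y ∈ Y, g • y ∈ Y) ∧ Y ≠ ⊥ ∧ Y ≠ ⊤ := by
        unfold Irr at hirr
        push Not at hirr
        obtain ⟨Y, h1, h2, h3⟩ := hirr
        exact ⟨Y, h1, h2, h3⟩
      obtain ⟨Y, hY, hY0, hY1⟩ := this
      have hmul : Nat.card U = Nat.card (U ⧸ Y) * Nat.card Y := AddSubgroup.card_eq_card_quotient_mul_card_addSubgroup Y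
      have hYpos : 1 < Nat.card Y := (AddSubgroup.one_lt_card_iff_ne_bot Y).2 hY0
      have hQpos : 1 < Nat.card (U ⧸ Y) := by
        have h1 : Y.index ≠ 1 := fun h => hY1 (AddSubgroup.index_eq_one.1 h)
        have h2 : Y.index ≠ 0 := AddSubgroup.FiniteIndex.index_ne_zero
        have h3 : Nat.card (U ⧸ Y) = Y.index := rfl
        omega
      obtain ⟨k1, hk1, hk1'⟩ := (Nat.dvd_prime_pow hq).1 (show Nat.card Y ∣ q ^ k by rw [← hk]; exact ⟨_, by rw [hmul, mul_comm]⟩)
      obtain ⟨k2, hk2, hk2'⟩ := (Nat.dvd_prime_pow hq).1 (show Nat.card (U ⧸ Y) ∣ q ^ k by rw [← hk]; exact ⟨_, hmul⟩)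
      have hYlt : Nat.card Y ≤ N := by
        have : 2 * Nat.card Y ≤ Nat.card U := by rw [hmul]; exact Nat.mul_le_mul_right _ hQpos
        omega
      have hQlt : Nat.card (U ⧸ Y) ≤ N := by
        have : Nat.card (U ⧸ Y) * 2 ≤ Nat.card U := by rw [hmul]; exact Nat.mul_le_mul_left _ hYpos
        omega
      obtain ⟨R1, hR1, hF1, hJ1⟩ := @IH Y _ _ (subAct Y hY) k1 (fun y => Subtype.ext (hU y)) hk1' (hk1.trans hkn) hYlt
      obtain ⟨R2, hR2, hF2, hJ2⟩ := @IH (U ⧸ Y) _ _ (quotAct Y hY) k2 (fun y => by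
        obtain ⟨x, rfl⟩ := QuotientAddGroup.mk_surjective y
        rw [← QuotientAddGroup.mk_nsmul, hU]
        rfl) hk2' (hk2.trans hkn) hQlt
      refine ⟨R1 ⊓ R2, inferInstance, ?_, ?_⟩
      · refine FH.of_two (QuotientGroup.map (R1 ⊓ R2) R1 (MonoidHom.id L) inf_le_left)
          (QuotientGroup.map (R1 ⊓ R2) R2 (MonoidHom.id L) inf_le_right) ?_ hF1 hF2
        intro x
        obtain ⟨x, rfl⟩ := QuotientGroup.mk_surjective x
        intro h1 h2
        have h1' : (x : L ⧸ R1) = 1 := h1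
        have h2' : (x : L ⧸ R2) = 1 := h2
        rw [QuotientGroup.eq_one_iff] at h1' h2' ⊢
        exact ⟨h1', h2'⟩
      · intro g hg
        obtain ⟨j1, hj1⟩ := hJ1 g hg.1
        obtain ⟨j2, hj2⟩ := hJ2 g hg.2
        refine ⟨j1 + j2 + 1, fun u => ?_⟩
        -- `h = g ^ q ^ (j1 + j2)` acts trivially on `Y` and on `U / Y`
        have e1 : ∀ y ∈ Y, ∀ i : ℕ, (g ^ q ^ j1) ^ i • y = y := by
          intro y hy i
          induction i with
          | zero => rw [pow_zero, one_smul]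
          | succ i ih =>
            rw [pow_succ, mul_smul]
            have h1 : (g ^ q ^ j1) • y = y := congrArg Subtype.val (hj1 ⟨y, hy⟩)
            rw [h1, ih]
        have e2 : ∀ u : U, ∀ i : ℕ, (g ^ q ^ j2) ^ i • u - u ∈ Y := by
          intro u i
          induction i with
          | zero => rw [pow_zero, one_smul, sub_self]; exact Y.zero_mem
          | succ i ih =>
            have h1 : ((g ^ q ^ j2 • u : U) : U ⧸ Y) = (u : U ⧸ Y) := hj2 (u : U ⧸ Y)
            have h2 : g ^ q ^ j2 • u - u ∈ Y := by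
              rw [QuotientAddGroup.eq] at h1
              have := Y.neg_mem h1
              rwa [neg_add_rev, neg_neg, neg_add_eq_sub] at this
            have h3 : (g ^ q ^ j2) ^ (i + 1) • u - u =
                (g ^ q ^ j2) ^ i • (g ^ q ^ j2 • u - u) + ((g ^ q ^ j2) ^ i • u - u) := by
              rw [pow_succ, mul_smul, smul_sub]
              abel
            rw [h3]
            exact Y.add_mem (hY _ _ h2) ih
        set h := g ^ q ^ (j1 + j2) with hh
        have f1 : ∀ y ∈ Y, h • y = y := by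
          intro y hy
          have := e1 y hy (q ^ j2)
          rwa [← pow_mul, ← pow_add] at this
        have f2 : h • u - u ∈ Y := by
          have := e2 u (q ^ j1)
          rwa [← pow_mul, ← pow_add, add_comm j2 j1] at this
        have f3 : ∀ i : ℕ, h ^ i • u = u + i • (h • u - u) := by
          intro i
          induction i with
          | zero => rw [pow_zero, one_smul, zero_smul, add_zero]
          | succ i ih =>
            rw [pow_succ', mul_smul, ih, smul_add, smul_comm h i, f1 _ f2, add_smul, one_smul]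
            abel
        have h4 := f3 q
        rw [hU, add_zero, hh, ← pow_mul, ← pow_succ] at h4
        exact h4

/-- the reduction to irreducible modules -/
theorem reduce {L U : Type u} [Group L] [AddCommGroup U] [Finite U] [DistribMulAction L U] {q n t : ℕ} (hq : q.Prime)
    (hU : ∀ u : U, q • u = 0) (hn : Nat.card U = q ^ n) (hf : ∀ g : L, (∀ u : U, g • u = u) → g = 1)
    (hO : ∀ N : Subgroup L, N.Normal → IsPGroup q N → N = ⊥)
    (H : ∀ (Y : Type u) [AddCommGroup Y] [Finite Y] [Nontrivial Y] [DistribMulAction L Y] (k : ℕ),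
      (∀ y : Y, q • y = 0) → Irr L Y → Nat.card Y = q ^ k → k ≤ n → FH t (rng L Y)) : FH t L := by
  obtain ⟨R, hR, hF, hJ⟩ := exists_unip hq H (Nat.card U) U n hU hn le_rfl le_rfl
  have h1 : R = ⊥ := by
    apply hO R hR
    rintro ⟨g, hg⟩
    obtain ⟨j, hj⟩ := hJ g hg
    exact ⟨j, Subtype.ext (hf _ hj)⟩
  subst h1
  exact hF.congr QuotientGroup.quotientBot

/-- a completely reducible faithful module: there is no nontrivial normal `q`-subgroup -/
theorem normal_of_cr {L U : Type u} [Group L] [AddCommGroup U] [Finite U] [DistribMulAction L U] {q : ℕ}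
    (hq : q.Prime) (hU : ∀ u : U, q • u = 0) (hf : ∀ g : L, (∀ u : U, g • u = u) → g = 1)
    (hcr : ∀ Y : AddSubgroup U, (∀ g : L, ∀ y ∈ Y, g • y ∈ Y) →
      ∃ Z : AddSubgroup U, (∀ g : L, ∀ z ∈ Z, g • z ∈ Z) ∧ Y ⊓ Z = ⊥ ∧ Y ⊔ Z = ⊤)
    (N : Subgroup L) (hN : N.Normal) (hNq : IsPGroup q N) : N = ⊥ := by
  have hfq : Fact q.Prime := ⟨hq⟩
  let W : AddSubgroup U :=
    { carrier := {v | ∀ g ∈ N, g • v = v}
      zero_mem' := fun g _ => smul_zero g
      add_mem' := fun {a b} ha hb g hg => by rw [smul_add, ha g hg, hb g hg]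
      neg_mem' := fun {a} ha g hg => by rw [smul_neg, ha g hg] }
  have hW : ∀ g : L, ∀ w ∈ W, g • w ∈ W := by
    intro g w hw x hx
    have h1 := hw _ (hN.conj_mem x hx g⁻¹)
    rw [inv_inv, mul_smul, mul_smul] at h1
    exact (inv_smul_eq_iff.1 h1)
  obtain ⟨Z, hZ, hWZ, hWZ'⟩ := hcr W hW
  have hZ0 : Z = ⊥ := by
    by_contra hne
    -- a nonzero fixed point in `Z`
    let _ : DistribMulAction N Z :=
      { smul := fun g z => ⟨(g : L) • (z : U), hZ g z z.2⟩
        one_smul := fun x => Subtype.ext (one_smul L (x : U))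
        mul_smul := fun g h x => Subtype.ext (mul_smul (g : L) (h : L) (x : U))
        smul_zero := fun g => Subtype.ext (smul_zero (g : L))
        smul_add := fun g x y => Subtype.ext (smul_add (g : L) (x : U) (y : U)) }
    have hnt : Nontrivial Z := (AddSubgroup.nontrivial_iff_ne_bot Z).2 hne
    have hqZ : q ∣ Nat.card Z := by
      obtain ⟨z, hz⟩ := exists_ne (0 : Z)
      have h2 : addOrderOf z ∣ q := addOrderOf_dvd_iff_nsmul_eq_zero.2 (Subtype.ext (hU z))
      rcases (Nat.dvd_prime hq).1 h2 with h3 | h3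
      · exact absurd (AddMonoid.addOrderOf_eq_one_iff.1 h3) hz
      · rw [← h3]
        exact addOrderOf_dvd_natCard z
    obtain ⟨z, hz, hz0⟩ := hNq.exists_fixed_point_of_prime_dvd_card_of_fixed_point Z hqZ (a := (0 : Z))
      (fun g => smul_zero g)
    have h1 : (z : U) ∈ W := fun g hg => congrArg Subtype.val (hz ⟨g, hg⟩)
    have h2 : (z : U) ∈ W ⊓ Z := ⟨h1, z.2⟩
    rw [hWZ, AddSubgroup.mem_bot] at h2
    exact hz0 (Subtype.ext h2.symm)
  rw [hZ0, sup_bot_eq] at hWZ'
  rw [eq_bot_iff]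
  intro x hx
  rw [Subgroup.mem_bot]
  apply hf
  intro v
  have : v ∈ W := by rw [hWZ']; trivial
  exact this x hx

section Final

variable {D X : Type u} [Group D] [Finite D] [AddCommGroup X] [Finite X] [DistribMulAction D X]

theorem rng_facts (L Y : Type u) [Group L] [Finite L] [Group.IsSolvable L] [AddCommGroup Y] [DistribMulAction L Y] :
    Finite (rng L Y) ∧ Group.IsSolvable (rng L Y) ∧ (∀ g : rng L Y, (∀ v : Y, g • v = v) → g = 1) ∧
      (Irr L Y → Irr (rng L Y) Y) ∧ Nat.card (rng L Y) ∣ Nat.card L := by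
  have hfin : Finite (rng L Y) := Finite.of_surjective _ pr_surjective
  refine ⟨hfin, Group.isSolvable_of_surjective pr_surjective, ?_, ?_, ?_⟩
  · intro g hg
    apply Subtype.ext
    apply Equiv.ext
    intro u
    exact hg u
  · intro hirr W hW
    exact hirr W fun g w hw => hW (pr L Y g) w hw
  · exact Subgroup.card_dvd_of_surjective _ pr_surjective

/-- **FHS (a)**: groups of odd order without nontrivial normal `q`-subgroups. -/
theorem fhs_odd' (hD : Group.IsSolvable D) (hodd : Odd (Nat.card D)) {q n : ℕ} (hq : q.Prime)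
    (hX : ∀ x : X, q • x = 0) (hn : Nat.card X = q ^ n) (hf : ∀ g : D, (∀ x : X, g • x = x) → g = 1)
    (hO : ∀ N : Subgroup D, N.Normal → IsPGroup q N → N = ⊥)
    (h : (q = 3 ∧ n ≤ 8) ∨ (q = 5 ∧ n ≤ 4) ∨ n ≤ 2) : FH 2 D := by
  refine reduce hq hX hn hf hO ?_
  intro Y _ _ _ _ k hY hirr hk hkn
  obtain ⟨h1, h2, h3, h4, h5⟩ := rng_facts D Y
  refine irr_odd (L := rng D Y) (U := Y) hq hY hk h3 (h4 hirr) ?_ ?_
  · exact Odd.of_dvd_nat hodd h5
  · omega

/-- **FHS (b)**: `3'`-groups without nontrivial normal `q`-subgroups. -/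
theorem fhs_three (hD : Group.IsSolvable D) (h3 : ¬ 3 ∣ Nat.card D) {q n : ℕ} (hq : q.Prime)
    (hX : ∀ x : X, q • x = 0) (hn : Nat.card X = q ^ n) (hf : ∀ g : D, (∀ x : X, g • x = x) → g = 1)
    (hO : ∀ N : Subgroup D, N.Normal → IsPGroup q N → N = ⊥)
    (h : (q = 2 ∧ n ≤ 12) ∨ n ≤ 2) : FH 3 D := by
  refine reduce hq hX hn hf hO ?_
  intro Y _ _ _ _ k hY hirr hk hkn
  obtain ⟨h1, h2, h4, h5, h6⟩ := rng_facts D Y
  have h7 : ¬ 3 ∣ Nat.card (rng D Y) := fun h => h3 (h.trans h6)
  rcases h with ⟨rfl, h⟩ | h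
  · exact irr_three (L := rng D Y) (U := Y) hY hk h4 (h5 hirr) h7 (by omega)
  · exact irr_three_two (L := rng D Y) (U := Y) hq hY hk h4 (h5 hirr) h7 (by omega)

/-- **FHS (a)**, completely reducible modules. -/
theorem fhs_odd (hD : Group.IsSolvable D) (hodd : Odd (Nat.card D)) {q n : ℕ} (hq : q.Prime)
    (hX : ∀ x : X, q • x = 0) (hn : Nat.card X = q ^ n) (hf : ∀ g : D, (∀ x : X, g • x = x) → g = 1)
    (hcr : ∀ Y : AddSubgroup X, (∀ g : D, ∀ y ∈ Y, g • y ∈ Y) →
      ∃ Z : AddSubgroup X, (∀ g : D, ∀ z ∈ Z, g • z ∈ Z) ∧ Y ⊓ Z = ⊥ ∧ Y ⊔ Z = ⊤)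
    (h : (q = 3 ∧ n ≤ 8) ∨ (q = 5 ∧ n ≤ 4) ∨ n ≤ 2) : FH 2 D :=
  fhs_odd' hD hodd hq hX hn hf (normal_of_cr hq hX hf hcr) h

end Final

end Cfsg.Agent.H273.RC
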