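import Cfsg.Agent.H188.RC.ThmA
import Cfsg.Agent.H236.RC.Ident

/-!
# S3510, row F, even dimension: the setting of box E5 (helper273)

`Sit` : the family consists of (scalar multiples of) commuting isometries of prime orders different from `p`.
`BoxLR` : box F1 as a black box.  `boxA` : box F2 in this setting.
-/

set_option autoImplicit false
open Cfsg

namespace Cfsg.Agent.H273.RC.Fev

open QuadraticMap MulAction
open Cfsg.Agent.LieClassical.OrthCore Cfsg.Agent.LieClassical.OrthTrans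
open Cfsg.Agent.LieClassical.OrthSimple Cfsg.Agent.ClassicalGeometry.OrthSemi
open Cfsg.Agent.ClassicalGeometry.OrthAut1 Cfsg.Agent.H106.RC Cfsg.Agent.H93.RC

variable {F V G Ω ι : Type} [Field F] [Finite F] [AddCommGroup V] [Module F V] [FiniteDimensional F V]
  [Group G] [Finite G] [MulAction G Ω] [Nonempty Ω] [Finite ι]

/-- box F1 -/
def BoxLR (Q : QuadraticForm F V) (ρ : ↥(E Q) →* G) (Ω : Type) [MulAction G Ω] (p : ℕ) : Prop :=
  ∀ (κ : Type) [Finite κ] {y : κ → G} {L : κ → Gam Q} {s : κ → ℕ}, (∀ i, Lf ρ (y i) (L i)) →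
    (∀ i, (s i).Prime) → (∀ i, s i ≠ p) → (∀ i, y i ^ s i = 1) → (∀ i, y i ≠ 1) →
    (∀ i j, y i * y j = y j * y i) → ∀ {u w : V} (hu : Q u = 0) (_ : Q w = 0) (huw : polar Q u w = 0),
    u ≠ 0 → (∀ a : F, w ≠ a • u) →
    (∀ i, ∀ v ∈ Submodule.span F {u, w}, (L i).1 v ∈ Submodule.span F {u, w}) →
    (∀ ω : Ω, ρ (AutOrth.SemiSim.sg Q u w hu huw) • ω = ω ∨ ∃ i, y i • ω = ω) → False

/-- the situation of E5: all members are scalar multiples of isometries of prime order `≠ p` -/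
structure Sit (Q : QuadraticForm F V) (N : Subgroup G) (ρ : ↥(E Q) →* G) (Ω : Type) [MulAction G Ω] (x : ι → G)
    (M : ι → Gam Q) (r : ι → ℕ) (T : ι → V ≃ₗ[F] V) (p : ℕ) : Prop where
  good : Good Q
  dim : 8 ≤ Module.finrank F V
  env : Env G Ω N
  rep : Rep Q N ρ
  pf : PF x r
  cov : Cov Ω x
  lf : ∀ i, Lf ρ (x i) (M i)
  iso : ∀ i v, Q (T i v) = Q v
  pow : ∀ i, T i ^ r i = 1
  comm : ∀ i j, T i * T j = T j * T i
  lift : ∀ i, ∃ a : F, a ≠ 0 ∧ ∀ v, (M i).1 v = a • T i v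
  rp : ∀ i, r i ≠ p
  ih : IH (Nat.card (P Q))
  box : BoxLR Q ρ Ω p

/-- box E5, cases (3): `V = D ⊥ D'`, both of dimension 4, no smaller nondegenerate invariant subspaces -/
def Case3 (Q : QuadraticForm F V) (T : ι → V ≃ₗ[F] V) : Prop :=
  Module.finrank F V = 8 ∧ ∃ D D' : Submodule F V, Module.finrank F D = 4 ∧ Module.finrank F D' = 4 ∧ IsCompl D D' ∧
    (∀ v ∈ D, ∀ w ∈ D', polar Q v w = 0) ∧ (∀ i, ∀ v ∈ D, T i v ∈ D) ∧ (∀ i, ∀ v ∈ D', T i v ∈ D') ∧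
    ∀ W : Submodule F V, Nondeg (Q.comp W.subtype) → (∀ i, ∀ v ∈ W, T i v ∈ W) → W ≠ ⊥ → 4 ≤ Module.finrank F W

/-- box E5, case (4): `q = 2`, `V = D ⊥ D'`, `D'` of type `6⁺`, two members not scalar on `D'` -/
def Case4 (Q : QuadraticForm F V) (T : ι → V ≃ₗ[F] V) : Prop :=
  Nat.card F = 2 ∧ Module.finrank F V = 8 ∧ ∃ D D' : Submodule F V, Module.finrank F D = 2 ∧
    Module.finrank F D' = 6 ∧ IsCompl D D' ∧
    (∀ v ∈ D, ∀ w ∈ D', polar Q v w = 0) ∧ (∀ i, ∀ v ∈ D, T i v ∈ D) ∧ (∀ i, ∀ v ∈ D', T i v ∈ D') ∧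
    (∃ U ≤ D', (∀ v ∈ U, Q v = 0) ∧ Module.finrank F U = 3) ∧
    ∃ i j, i ≠ j ∧ (∃ v ∈ D', T i v ≠ v) ∧ ∃ v ∈ D', T j v ≠ v

end Cfsg.Agent.H273.RC.Fev
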