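import Cfsg.Agent.H138.RC.Base
import Cfsg.Agent.H273.RC.FevLin
import Cfsg.Agent.H273.RC.Fev

/-!
# S3510, row F, even dimension: box E5 (helper273)

`e5` : no `p`-element, an invariant nondegenerate decomposition: contradiction, given the cases (3) and (4).
-/

set_option autoImplicit false
set_option linter.unusedSectionVars false
open Cfsg

namespace Cfsg.Agent.H273.RC.Fev

open QuadraticMap MulAction Module
open Cfsg.Agent.LieClassical.OrthCore Cfsg.Agent.LieClassical.OrthTrans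
open Cfsg.Agent.LieClassical.OrthSimple Cfsg.Agent.ClassicalGeometry.OrthSemi
open Cfsg.Agent.ClassicalGeometry.OrthAut1 Cfsg.Agent.H106.RC Cfsg.Agent.H93.RC
open Cfsg.Agent.H138.RC Cfsg.Agent.H955

variable {F V G Ω : Type} [Field F] [Finite F] [AddCommGroup V] [Module F V] [FiniteDimensional F V]
  {Q : QuadraticForm F V} [Group G] [Finite G] [MulAction G Ω] [Nonempty Ω]
  {N : Subgroup G} {ρ : ↥(E Q) →* G}

theorem card_rep (hρ : Rep Q N ρ) : Nat.card (P Q) = Nat.card N := by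
  rw [← hρ.range]
  exact Nat.card_congr ((QuotientGroup.quotientMulEquivOfEq hρ.ker.symm).trans
    (QuotientGroup.quotientKerEquivRange ρ)).toEquiv

/-- the environment, for isometries -/
theorem cv_of (hG : Good Q) (hE : Env G Ω N) (hρ : Rep Q N ρ) (hIH : IH (Nat.card (P Q))) {p : ℕ}
    (hLR : LR Q Ω ρ p) {ι : Type} {x : ι → G} {M : ι → Gam Q} {r : ι → ℕ}
    (hl : ∀ i, Lf ρ (x i) (M i)) (hx : PF x r) (hcov : Cov Ω x) {T : ι → V ≃ₗ[F] V} (hTQ : ∀ i v, Q (T i v) = Q v)
    (hTM : ∀ i v, (M i).1 v = T i v) (hTc : ∀ i j, T i * T j = T j * T i) :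
    CV Q Ω N ρ p x M T (fun _ => 1) r where
  good := hG
  env := hE
  rep := hρ
  lr := hLR
  ih := by rw [← card_rep hρ]; exact hIH
  prime := hx.prime
  pow := hx.pow
  ne := hx.ne
  comm := hx.comm
  cov := hcov
  lf := hl
  lin := hTM
  sim := fun i v => by rw [hTQ, one_mul]
  commX := hTc

/-- **box E5**, up to the cases (3) and (4) -/
theorem e5 {p : ℕ} {ι : Type} [Finite ι] {x : ι → G} {M : ι → Gam Q} {T : ι → V ≃ₗ[F] V} {c : ι → F} {r : ι → ℕ}
    (h : CV Q Ω N ρ p x M T c r) (hinj : Function.Injective r) (hTQ : ∀ i v, Q (T i v) = Q v)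
    (hTr : ∀ i, T i ^ r i = 1) (h8 : 8 ≤ finrank F V) (heven : Even (finrank F V)) [CharP F p]
    (hD : ∃ D : Submodule F V, D ≠ ⊥ ∧ D ≠ ⊤ ∧ Nondeg (res Q D) ∧ ∀ i, ∀ v ∈ D, T i v ∈ D)
    (hp : ∀ i, r i ≠ p)
    (h3 : ∀ D : Submodule F V, finrank F V = 8 → finrank F D = 4 → Nondeg (res Q D) →
      (∀ i, ∀ v ∈ D, T i v ∈ D) → (∀ W : Submodule F V, Nondeg (res Q W) → (∀ i, ∀ v ∈ W, T i v ∈ W) → W ≠ ⊥ →
        4 ≤ finrank F W) → False)
    (h4 : ∀ D : Submodule F V, Nat.card F = 2 → finrank F V = 8 → finrank F D = 2 → Nondeg (res Q D) →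
      (∀ i, ∀ v ∈ D, T i v ∈ D) → (∃ U ≤ perp Q D, (∀ v ∈ U, Q v = 0) ∧ finrank F U = 3) →
      ∀ i j, i ≠ j → (∃ v ∈ perp Q D, T i v ≠ v) → (∃ v ∈ perp Q D, T j v ≠ v) → False) : False := by
  classical
  have hQ := h.good.nondeg
  obtain ⟨i₀⟩ : Nonempty ι := by
    obtain ⟨ω⟩ := ‹Nonempty Ω›
    exact ⟨(h.cov ω).choose⟩
  -- a minimal subspace
  obtain ⟨D, hD0, hDt, hDn, hDi, hmin⟩ : ∃ D : Submodule F V, D ≠ ⊥ ∧ D ≠ ⊤ ∧ Nondeg (res Q D) ∧
      (∀ i, ∀ v ∈ D, T i v ∈ D) ∧ ∀ W : Submodule F V, Nondeg (res Q W) → (∀ i, ∀ v ∈ W, T i v ∈ W) → W ≠ ⊥ →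
        finrank F D ≤ finrank F W := by
    have hex : ∃ n, ∃ D : Submodule F V, Nondeg (res Q D) ∧ (∀ i, ∀ v ∈ D, T i v ∈ D) ∧ D ≠ ⊥ ∧
        finrank F D = n := by
      obtain ⟨D, a, -, b, c⟩ := hD
      exact ⟨_, D, b, c, a, rfl⟩
    obtain ⟨D, a, b, c, d⟩ := Nat.find_spec hex
    have hm : ∀ W : Submodule F V, Nondeg (res Q W) → (∀ i, ∀ v ∈ W, T i v ∈ W) → W ≠ ⊥ →
        finrank F D ≤ finrank F W := by
      intro W hW hWi hW0
      rw [d]
      exact Nat.find_min' hex ⟨W, hW, hWi, hW0, rfl⟩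
    refine ⟨D, c, ?_, a, b, hm⟩
    rintro rfl
    obtain ⟨D', a', b', c', d'⟩ := hD
    have h1 := hm D' c' d' a'
    have h2 := Submodule.finrank_lt b'
    rw [finrank_top] at h1
    omega
  have hsum := finrank_add_perp hQ D
  have hD'n := nondeg_perp hQ hDn
  have hD'i : ∀ i, ∀ v ∈ perp Q D, T i v ∈ perp Q D := fun i => perp_inv (hTQ i) (hDi i)
  have hDlt := Submodule.finrank_lt hDt
  have hDpos : finrank F D ≠ 0 := fun h0 => hD0 (Submodule.finrank_eq_zero.1 h0)
  have hD'0 : perp Q D ≠ ⊥ := by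
    intro h0
    rw [h0, finrank_bot] at hsum
    omega
  have hDD' := hmin _ hD'n hD'i hD'0
  have hD'4 : 4 ≤ finrank F (perp Q D) := by omega
  by_cases hsc : ∀ i, ∃ a : F, ∀ v ∈ perp Q D, T i v = a • v
  · -- case (2): all scalar on `D'`
    choose a ha using hsc
    obtain ⟨P, hPD, hPn, hP2, hex⟩ : ∃ P ≤ perp Q D, Nondeg (res Q P) ∧ finrank F P = 2 ∧
        ¬ (Nat.card F = 2 ∧ finrank F (perp Q P) = 6 ∧
          ∃ U : Submodule F (perp Q P), (∀ v ∈ U, Q (v : V) = 0) ∧ finrank F U = 3) := by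
      by_cases hF : Nat.card F = 2
      · obtain ⟨P, hPD, hPn, hP2, hnp⟩ := exists_plane_two hF hQ hD'n hD'4
        refine ⟨P, hPD, hPn, hP2, ?_⟩
        rintro ⟨-, h6, U, hU, hU3⟩
        exact hnp ⟨U, hU, by rw [hU3, h6]⟩
      · obtain ⟨x, hxD, hx0, hx⟩ := Cfsg.Agent.LieClassical.OrthFinite.exists_sing_mem (Q := Q) (perp Q D) (by omega)
        obtain ⟨⟨y, hyD⟩, hxy⟩ := Cfsg.Agent.LieClassical.OrthTrans.exists_hyp (Q := res Q (perp Q D))
          (x := ⟨x, hxD⟩) hD'n hx (fun h => hx0 (congrArg Subtype.val h))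
        have hp : polar Q x y = 1 := hxy.pair
        have h1 := plane_nondeg (Q := Q) (x := x) (y := y) (by
          rw [hp, hx, mul_zero, zero_mul, one_pow]
          exact zero_ne_one)
        refine ⟨Submodule.span F {x, y}, ?_, h1.1, h1.2, fun h => hF h.1⟩
        rw [Submodule.span_le]
        rintro z (rfl | rfl)
        · exact hxD
        · exact hyD
    have hPs := finrank_add_perp hQ P
    have hDP : D ≤ perp Q P := by
      intro d hd v hv
      exact mem_perp'.1 (hPD hv) d hd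
    have hPi : ∀ i, ∀ v ∈ P, T i v ∈ P := by
      intro i v hv
      rw [ha i v (hPD hv)]
      exact P.smul_mem _ hv
    have hns : ∀ i, ∀ b : F, ¬ ∀ v ∈ perp Q P, T i v = b • v := by
      intro i b hb
      -- a common vector
      obtain ⟨w, hw, hw0⟩ : ∃ w ∈ perp Q D ⊓ perp Q P, w ≠ 0 := by
        rw [← Submodule.ne_bot_iff]
        intro h0
        have h1 := Submodule.finrank_sup_add_finrank_inf_eq (perp Q D) (perp Q P)
        have h2 := Submodule.finrank_le (perp Q D ⊔ perp Q P)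
        rw [h0, finrank_bot] at h1
        omega
      have hab : a i = b := by
        have h1 := ha i w hw.1
        rw [hb w hw.2] at h1
        exact (smul_left_injective F hw0 h1).symm
      refine h.not_scal i b fun v => ?_
      obtain ⟨d, hd, e, he, rfl⟩ : ∃ d ∈ D, ∃ e ∈ perp Q D, d + e = v := by
        have h1 : v ∈ D ⊔ perp Q D := by rw [(isCompl_perp hDn).sup_eq_top]; trivial
        exact Submodule.mem_sup.1 h1
      rw [map_add, smul_add, hb d (hDP hd), ha i e he, hab]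
    refine h.box_A (perp Q P) (Cfsg.Agent.LieClassical.OrthFinite.good_of_finite (nondeg_perp hQ hPn) (by omega)) ?_
      (fun i => perp_inv (hTQ i) (hPi i)) ⟨i₀, hns i₀⟩ hinj.injOn (fun i _ => hp i) (Or.inl hex)
    intro h0
    rw [h0, finrank_top] at hPs
    omega
  -- case (1): not all scalar on `D'`
  push Not at hsc
  obtain ⟨i₁, hi₁⟩ := hsc
  have hne : ∃ i, ∀ a : F, ¬ ∀ v ∈ perp Q D, T i v = a • v := by
    refine ⟨i₁, fun a ha => ?_⟩
    obtain ⟨v, hv, hv'⟩ := hi₁ a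
    exact hv' (ha v hv)
  have hD't : perp Q D ≠ ⊤ := by
    intro h0
    rw [h0, finrank_top] at hsum
    omega
  by_cases h5 : 5 ≤ finrank F (perp Q D)
  · classical
    by_cases hex : Nat.card F = 2 ∧ finrank F (perp Q D) = 6 ∧
          ∃ U : Submodule F (perp Q D), (∀ v ∈ U, Q (v : V) = 0) ∧ finrank F U = 3
    swap
    · exact h.box_A (perp Q D) (Cfsg.Agent.LieClassical.OrthFinite.good_of_finite hD'n h5) hD't hD'i hne hinj.injOn
        (fun i _ => hp i) (Or.inl hex)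
    by_cases hss : {i | ∀ a : F, ¬ ∀ v ∈ perp Q D, T i v = a • v}.Subsingleton
    · exact h.box_A (perp Q D) (Cfsg.Agent.LieClassical.OrthFinite.good_of_finite hD'n h5) hD't hD'i hne hinj.injOn
        (fun i _ => hp i) (Or.inr hss)
    obtain ⟨hF, h6, U, hU, hU3⟩ := hex
    rw [Set.not_subsingleton_iff] at hss
    obtain ⟨i, hi, j, hj, hij⟩ := hss
    have hnt : ∀ k, (∀ a : F, ¬ ∀ v ∈ perp Q D, T k v = a • v) → ∃ v ∈ perp Q D, T k v ≠ v := by
      intro k hk
      have := hk 1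
      push Not at this
      obtain ⟨v, hv, hv'⟩ := this
      rw [one_smul] at hv'
      exact ⟨v, hv, hv'⟩
    have hp2 : p = 2 := by
      have h2 := two_zero hF
      have h3 : ((2 : ℕ) : F) = 0 := by exact_mod_cast h2
      rw [CharP.cast_eq_zero_iff F p] at h3
      rcases (Nat.dvd_prime Nat.prime_two).1 h3 with h4 | h4
      · exfalso
        subst h4
        have := CharP.cast_eq_zero F 1
        rw [Nat.cast_one] at this
        exact one_ne_zero this
      · exact h4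
    have hrF : ∀ k, (r k : F) ≠ 0 := by
      intro k h0
      rw [CharP.cast_eq_zero_iff F p] at h0
      have h1 := (Nat.prime_dvd_prime_iff_eq (by rw [hp2]; exact Nat.prime_two) (h.prime k)).1 h0
      exact hp k h1.symm
    -- a member with fixed vectors
    have key : ∀ k, (∀ a : F, ¬ ∀ v ∈ perp Q D, T k v = a • v) → fixIn (T k) (perp Q D) ≠ ⊥ → finrank F D ≤ 3 := by
      intro k hk hk0
      have hCn := fix_nondeg (hTQ k) (hrF k) (hTr k) hD'n (hD'i k)
      have hCle : fixIn (T k) (perp Q D) ≤ perp Q D := fun v hv => hv.1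
      have hCi : ∀ l, ∀ v ∈ fixIn (T k) (perp Q D), T l v ∈ fixIn (T k) (perp Q D) := by
        intro l v hv
        refine ⟨hD'i l v hv.1, ?_⟩
        have h1 : T k (T l v) = T l (T k v) := by
          change (T k * T l) v = (T l * T k) v
          rw [h.commX]
        rw [h1, hv.2]
      obtain ⟨h1, h2⟩ := sub_perp hQ hCn hD'n hCle
      have h3 := hmin _ hCn hCi hk0
      have h4 := hmin _ h1 (fun l v hv => ⟨hD'i l v hv.1, perp_inv (hTQ l) (hCi l) v hv.2⟩) (by
        intro h0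
        rw [h0, finrank_bot, add_zero] at h2
        have h5 := Submodule.eq_of_le_of_finrank_eq hCle h2
        obtain ⟨v, hv, hv'⟩ := hnt k hk
        rw [← h5] at hv
        exact hv' hv.2)
      omega
    have hD3 : finrank F D ≤ 3 := by
      by_cases hi0 : fixIn (T i) (perp Q D) = ⊥
      · by_cases hj0 : fixIn (T j) (perp Q D) = ⊥
        · exfalso
          apply hij
          apply hinj
          rw [eq_seven hF hD'n h6 hU hU3 (hTQ i) (hD'i i) (h.prime i) (hTr i) hi0,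
            eq_seven hF hD'n h6 hU hU3 (hTQ j) (hD'i j) (h.prime j) (hTr j) hj0]
        · exact key j hj hj0
      · exact key i hi hi0
    have hD2 : finrank F D = 2 := by
      obtain ⟨m, hm⟩ := heven
      omega
    refine h4 D hF (by omega) hD2 hDn hDi ⟨U.map (perp Q D).subtype, ?_, ?_, ?_⟩ i j hij (hnt i hi) (hnt j hj)
    · exact Submodule.map_subtype_le _ _
    · rintro _ ⟨u, hu, rfl⟩
      exact hU u hu
    · rw [← hU3]
      exact Submodule.finrank_map_subtype_eq _ _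
  · -- case (3)
    have hD4 : finrank F D = 4 := by omega
    exact h3 D (by omega) hD4 hDn hDi fun W hW hWi hW0 => hD4 ▸ hmin W hW hWi hW0

/-- **box E5** in the form of helper93's stub (`hD` with plain invariance), given box F1 and the cases (3) and (4)
(helper551) -/
theorem box_E5_of (hG : Good Q) (hE : Env G Ω N) (hρ : Rep Q N ρ) (hIH : IH (Nat.card (P Q)))
    {p : ℕ} [CharP F p] (hLR : LR Q Ω ρ p) {ι : Type} [Finite ι] {x : ι → G} {M : ι → Gam Q} {r : ι → ℕ}
    (hl : ∀ i, Lf ρ (x i) (M i)) (hx : PF x r) (hcov : Cov Ω x)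
    (h8 : 8 ≤ Module.finrank F V) (heven : Even (Module.finrank F V))
    (T : ι → V ≃ₗ[F] V) (hTO : ∀ i, T i ∈ O Q) (hTM : ∀ i v, (M i).1 v = T i v)
    (hTr : ∀ i, T i ^ r i = 1) (hTc : ∀ i j, T i * T j = T j * T i)
    (hD : ∃ D : Submodule F V, D ≠ ⊥ ∧ D ≠ ⊤ ∧ Nondeg (Q.comp D.subtype) ∧ ∀ i, ∀ v ∈ D, T i v ∈ D)
    (hp : ∀ i, r i ≠ p) (h3 : Sit Q N ρ Ω x M r T p → Case3 Q T → False)
    (h4 : Sit Q N ρ Ω x M r T p → Case4 Q T → False) : False := by
  have hTQ : ∀ i v, Q (T i v) = Q v := fun i v => hTO i v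
  have hQ := hG.nondeg
  have S : Sit Q N ρ Ω x M r T p :=
    { good := hG
      dim := h8
      env := hE
      rep := hρ
      pf := hx
      cov := hcov
      lf := hl
      iso := hTQ
      pow := hTr
      comm := hTc
      lift := fun i => ⟨1, one_ne_zero, fun v => by rw [hTM, one_smul]⟩
      rp := hp
      ih := hIH
      box := hLR }
  refine e5 (cv_of hG hE hρ hIH hLR hl hx hcov hTQ hTM hTc) hx.inj hTQ hTr h8 heven hD hp ?_ ?_
  · intro D h8 hD4 hDn hDi hmin
    have hs := finrank_add_perp hQ D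
    exact h3 S ⟨h8, D, perp Q D, hD4, by omega, isCompl_perp hDn, fun v hv w hw => hw v hv, hDi,
      fun i => perp_inv (hTQ i) (hDi i), hmin⟩
  · intro D hF h8 hD2 hDn hDi hU i j hij hi hj
    have hs := finrank_add_perp hQ D
    exact h4 S ⟨hF, h8, D, perp Q D, hD2, by omega, isCompl_perp hDn, fun v hv w hw => hw v hv, hDi,
      fun i => perp_inv (hTQ i) (hDi i), hU, i, j, hij, hi, hj⟩

end Cfsg.Agent.H273.RC.Fev
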