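import Cfsg.Agent.H527.RC.FHB
import Cfsg.Agent.H822.Cls.Plug
import Cfsg.Agent.H308.ClsNum
import Cfsg.Agent.Lib.FieldAutCard
import Cfsg.Agent.Lib.SolvableNormalP
import Cfsg.Agent.SmallSimple.KleinFourAut

/-!
# S4191 (FHS): small solvable linear groups, the primitive case (helper273)
-/

set_option autoImplicit false
set_option linter.unusedSectionVars false

namespace Cfsg.Agent.H273.RC

open scoped Pointwise commutatorElement
open Cfsg.Agent.H527.RC Cfsg.Agent.H822.Cls

universe u

theorem fh_one_of_comm {G : Type u} [Group G] (h : ∀ a b : G, a * b = b * a) : FH 1 G := by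
  rw [FH.one_iff]
  let _ : CommGroup G := { (inferInstance : Group G) with mul_comm := h }
  infer_instance

/-- sizes of the field and of the module -/
theorem field_facts (U F : Type u) [AddCommGroup U] [Finite U] [Nontrivial U] [Field F] [Finite F] [Module F U]
    {q n : ℕ} (hq : q.Prime) (hU : ∀ u : U, q • u = 0) (hn : Nat.card U = q ^ n) :
    ∃ s, 1 ≤ s ∧ Nat.card F = q ^ s ∧ s * Module.finrank F U = n ∧ 1 ≤ Module.finrank F U := by
  have hfq : Fact q.Prime := ⟨hq⟩
  obtain ⟨u, hu⟩ := exists_ne (0 : U)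
  have h0 : (q : F) = 0 := by
    by_contra h
    have h1 : (q : F) • u = 0 := by rw [Nat.cast_smul_eq_nsmul]; exact hU u
    rcases smul_eq_zero.1 h1 with h2 | h2
    · exact h h2
    · exact hu h2
  have hchar : CharP F q := by
    obtain ⟨p, hp⟩ := CharP.exists F
    have hpp : p.Prime := CharP.char_is_prime F p
    have h1 : p ∣ q := (CharP.cast_eq_zero_iff F p q).1 h0
    have h2 : p = q := (Nat.prime_dvd_prime_iff_eq hpp hq).1 h1
    rwa [← h2]
  let _ : Fintype F := Fintype.ofFinite F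
  obtain ⟨s, _, hs⟩ := FiniteField.card F q
  have hs' : Nat.card F = q ^ (s : ℕ) := by rw [Nat.card_eq_fintype_card]; exact hs
  have hfin : Module.Finite F U := Module.Finite.of_finite
  have hU' : Nat.card U = Nat.card F ^ Module.finrank F U := Module.natCard_eq_pow_finrank
  rw [hs', ← pow_mul, hn] at hU'
  refine ⟨s, s.2, hs', (Nat.pow_right_injective hq.two_le hU').symm, ?_⟩
  exact Module.finrank_pos

section

variable {L U F : Type u} [Group L] [AddCommGroup U]
  [DistribMulAction L U] [Field F] [Finite F] [Module F U] (D : Prim L U F)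

/-- if `S = A` then `C(A) = A` -/
theorem cent_le_A (hS : D.S ≤ D.A) : Subgroup.centralizer (D.A : Set L) ≤ D.A := by
  intro c hc
  apply hS
  apply D.dual c hc
  intro s hs
  have h1 := Subgroup.mem_centralizer_iff.1 hc s (hS hs)
  have h2 : c * s * c⁻¹ * s⁻¹ = 1 := by rw [← h1]; group
  rw [h2]
  exact D.A.one_mem

/-- the quotient by `C(A)` is commutative -/
theorem fh_quot (N : Subgroup L) [N.Normal] (hN : Subgroup.centralizer (D.A : Set L) ≤ N) : FH 1 (L ⧸ N) := by
  apply fh_one_of_comm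
  intro a b
  obtain ⟨x, rfl⟩ := QuotientGroup.mk_surjective a
  obtain ⟨y, rfl⟩ := QuotientGroup.mk_surjective b
  rw [← QuotientGroup.mk_mul, ← QuotientGroup.mk_mul, QuotientGroup.eq]
  apply hN
  rw [← D.σ_ker, MonoidHom.mem_ker, map_mul, map_inv, map_mul, map_mul, ringEquiv_comm (D.σ x) (D.σ y)]
  exact inv_mul_cancel _

theorem fh_two_of_le [Finite L] [Finite U] [Nontrivial U] (hS : D.S ≤ D.A) : FH 2 L := by
  have hn := D.A_normal
  exact ⟨D.A, hn, D.isNilpotent_of_le D.A D.A_le, fh_quot D D.A (cent_le_A D hS)⟩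

theorem S_le_of_empty {Q : Finset ℕ} {m : ℕ → ℕ} (hN : D.Num Q m) (hQ : Q = ∅) : D.S ≤ D.A := by
  have h1 := hN.relIndex
  rw [hQ, Finset.prod_empty, one_pow] at h1
  exact Subgroup.relIndex_eq_one.1 h1

/-- facts on the primes in `Q` -/
theorem num_facts [Finite L] {Q : Finset ℕ} {m : ℕ → ℕ} (hN : D.Num Q m) {r : ℕ} (hr : r ∈ Q) :
    r.Prime ∧ r ∣ Nat.card F - 1 ∧ r ^ m r ≤ Module.finrank F U ∧ r ≤ Module.finrank F U ∧ r ∣ Nat.card L := by
  have h1 := hN.prime r hr
  have h2 : r ^ m r ∣ ∏ q ∈ Q, q ^ m q := Finset.dvd_prod_of_mem (fun q => q ^ m q) hr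
  have hpos : 0 < ∏ q ∈ Q, q ^ m q := Finset.prod_pos fun q hq => pow_pos (hN.prime q hq).pos _
  have h3 : r ^ m r ≤ Module.finrank F U := (Nat.le_of_dvd hpos h2).trans hN.le_finrank
  have h4 : r ≤ r ^ m r := Nat.le_self_pow (by have := hN.one_le r hr; omega) r
  refine ⟨h1, hN.dvd r hr, h3, h4.trans h3, ?_⟩
  have h5 : r ∣ r ^ m r := dvd_pow_self r (by have := hN.one_le r hr; omega)
  have h6 : r ∣ D.A.relIndex D.S := by
    rw [hN.relIndex]
    exact (h5.trans h2).trans (dvd_pow_self _ two_ne_zero)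
  exact h6.trans ((Subgroup.relIndex_dvd_card _ _).trans (Subgroup.card_subgroup_dvd_card _))

end

/-- the primitive case for groups of odd order -/
theorem prim_odd {L U : Type u} [Group L] [Finite L] [Group.IsSolvable L] [AddCommGroup U] [Finite U]
    [Nontrivial U] [DistribMulAction L U] {q n : ℕ} (hq : q.Prime) (hU : ∀ u : U, q • u = 0)
    (hn : Nat.card U = q ^ n) (hf : ∀ g : L, (∀ u : U, g • u = u) → g = 1) (hirr : Irr L U) (hI : ¬ Imprim L U)
    (hodd : Odd (Nat.card L)) (h : (q = 3 ∧ n ≤ 8) ∨ (q = 5 ∧ n ≤ 4) ∨ n ≤ 2) : FH 2 L := by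
  obtain ⟨F, hF1, hF2, hF3, ⟨D⟩⟩ := existsPrim L U q hq hU hf hirr hI
  obtain ⟨Q, m, hN⟩ := Cfsg.Agent.H308.ClsNum.exists_num L U F D
  obtain ⟨s, hs1, hs2, hs3, hs4⟩ := field_facts U F hq hU hn
  apply fh_two_of_le D
  apply S_le_of_empty D hN
  rw [Finset.eq_empty_iff_forall_notMem]
  intro r hr
  obtain ⟨r1, r2, _, r3, r4⟩ := num_facts D hN hr
  have r5 : r ≠ 2 := by
    rintro rfl
    exact (Nat.not_even_iff_odd.2 hodd) (even_iff_two_dvd.2 r4)
  have r6 : 3 ≤ r := by
    have := r1.two_le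
    omega
  rw [hs2] at r2
  generalize Module.finrank F U = d at *
  rcases h with ⟨rfl, h⟩ | ⟨rfl, h⟩ | h
  · have r7 : r ≠ 3 := by
      rintro rfl
      have h1 : 3 ∣ 3 ^ s := dvd_pow_self 3 (by omega)
      have h2 : 1 ≤ 3 ^ s := Nat.one_le_pow _ _ (by norm_num)
      omega
    have r8 : r ≠ 4 := by
      rintro rfl
      exact absurd r1 (by norm_num)
    have h5 : 5 ≤ d := by omega
    have h6 : s = 1 := by
      by_contra h7
      have : 2 ≤ s := by omega
      have : 2 * 5 ≤ s * d := Nat.mul_le_mul this h5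
      omega
    rw [h6] at r2
    have := Nat.le_of_dvd (by norm_num) r2
    omega
  · have h5 : 3 ≤ d := by omega
    have h6 : s = 1 := by
      by_contra h7
      have : 2 ≤ s := by omega
      have : 2 * 3 ≤ s * d := Nat.mul_le_mul this h5
      omega
    rw [h6] at r2
    have h8 := Nat.le_of_dvd (by norm_num) r2
    have h9 : r = 3 ∨ r = 4 := by omega
    rcases h9 with rfl | rfl
    · omega
    · exact absurd r1 (by norm_num)
  · have : 1 * d ≤ s * d := Nat.mul_le_mul_right d hs1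
    omega

/-- the primitive case in characteristic two for `3'`-groups -/
theorem prim_three {L U : Type u} [Group L] [Finite L] [Group.IsSolvable L] [AddCommGroup U] [Finite U]
    [Nontrivial U] [DistribMulAction L U] {n : ℕ} (hU : ∀ u : U, 2 • u = 0)
    (hn : Nat.card U = 2 ^ n) (hf : ∀ g : L, (∀ u : U, g • u = u) → g = 1) (hirr : Irr L U) (hI : ¬ Imprim L U)
    (h3 : ¬ 3 ∣ Nat.card L) (h : n ≤ 12) : FH 2 L ∧ (n ≤ 3 → FH 1 L) := by
  obtain ⟨F, hF1, hF2, hF3, ⟨D⟩⟩ := existsPrim L U 2 Nat.prime_two hU hf hirr hI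
  obtain ⟨Q, m, hN⟩ := Cfsg.Agent.H308.ClsNum.exists_num L U F D
  obtain ⟨s, hs1, hs2, hs3, hs4⟩ := field_facts U F Nat.prime_two hU hn
  have hSA : D.S ≤ D.A := by
    apply S_le_of_empty D hN
    rw [Finset.eq_empty_iff_forall_notMem]
    intro r hr
    obtain ⟨r1, r2, _, r3, r4⟩ := num_facts D hN hr
    have r6 : r ≠ 3 := by
      rintro rfl
      exact h3 r4
    have r8 : r ≠ 4 := by
      rintro rfl
      exact absurd r1 (by norm_num)
    rw [hs2] at r2
    generalize Module.finrank F U = d at *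
    have r5 : r ≠ 2 := by
      rintro rfl
      have h1 : 2 ∣ 2 ^ s := dvd_pow_self 2 (by omega)
      have h2 : 1 ≤ 2 ^ s := Nat.one_le_pow _ _ (by norm_num)
      omega
    have r7 := r1.two_le
    have h5 : 5 ≤ d := by omega
    have h6 : s ≤ 2 := by
      by_contra h7
      have : 3 ≤ s := by omega
      have : 3 * 5 ≤ s * d := Nat.mul_le_mul this h5
      omega
    have h7 : s = 1 ∨ s = 2 := by omega
    rcases h7 with rfl | rfl
    · have := Nat.le_of_dvd (by norm_num) r2
      omega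
    · have := Nat.le_of_dvd (by norm_num) r2
      omega
  refine ⟨fh_two_of_le D hSA, fun hn3 => ?_⟩
  have hcA := cent_le_A D hSA
  have hAn := D.A_normal
  -- the order of `A` divides `2 ^ s - 1`
  have hA : Nat.card D.A ∣ 2 ^ s - 1 := by
    have h1 : Nat.card D.A ∣ Nat.card Fˣ := Subgroup.card_dvd_of_injective D.ι D.ι_inj
    rwa [Nat.card_units, hs2] at h1
  -- the order of `L / A` divides `s`
  have hker : D.σ.ker ≤ D.A := by rw [D.σ_ker]; exact hcA
  have hker' : D.σ.ker = D.A := by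
    apply le_antisymm hker
    rw [D.σ_ker]
    exact D.A_le.trans D.S_le
  have hσ : Nat.card D.σ.range ∣ s := by
    let _ : Fintype F := Fintype.ofFinite F
    have : Fact (Nat.Prime 2) := ⟨Nat.prime_two⟩
    have h1 : Nat.card (F ≃+* F) = s :=
      Lib.FieldAutCard.card_ringAut (p := 2) hs1 (by rw [← Nat.card_eq_fintype_card]; exact hs2)
    rw [← h1]
    exact Subgroup.card_subgroup_dvd_card _
  have hdiv : Nat.card D.A ∣ Nat.card L := Subgroup.card_subgroup_dvd_card _
  have hdiv' : Nat.card D.σ.range ∣ Nat.card L := Subgroup.card_range_dvd _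
  have hsn : s ∣ n := ⟨_, hs3.symm⟩
  have h13 : s = 1 ∨ s = 2 ∨ s = 3 := by
    have : n ≠ 0 := by
      rintro rfl
      rcases Nat.mul_eq_zero.1 hs3 with h1 | h1 <;> omega
    have := Nat.le_of_dvd (by omega) hsn
    omega
  have hcase : Nat.card D.A = 1 ∨ Nat.card D.σ.range = 1 := by
    rcases h13 with rfl | rfl | rfl
    · exact Or.inr (Nat.dvd_one.1 hσ)
    · left
      have h1 : Nat.card D.A ∣ 3 := hA
      rcases (Nat.dvd_prime Nat.prime_three).1 h1 with h2 | h2
      · exact h2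
      · exact absurd (h2 ▸ hdiv) h3
    · right
      rcases (Nat.dvd_prime Nat.prime_three).1 hσ with h2 | h2
      · exact h2
      · exact absurd (h2 ▸ hdiv') h3
  rcases hcase with h1 | h1
  · have h2 : D.σ.ker = ⊥ := by rw [hker']; exact Subgroup.card_eq_one.1 h1
    have h3 : Function.Injective D.σ := (MonoidHom.ker_eq_bot_iff _).1 h2
    apply fh_one_of_comm
    intro a b
    apply h3
    rw [map_mul, map_mul, ringEquiv_comm]
  · have h2 : D.σ.range = ⊥ := Subgroup.card_eq_one.1 h1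
    have h4 : ∀ g : L, g ∈ D.A := by
      intro g
      apply hker
      rw [MonoidHom.mem_ker]
      have : D.σ g ∈ D.σ.range := ⟨g, rfl⟩
      rwa [h2, Subgroup.mem_bot] at this
    apply fh_one_of_comm
    intro a b
    have h5 := D.S_le (D.A_le (h4 b))
    exact Subgroup.mem_centralizer_iff.1 h5 a (h4 a)

/-- elements act on `S / A` with order at most two if this group has order four -/
theorem sq_triv {L U F : Type u} [Group L] [Finite L] [AddCommGroup U]
    [DistribMulAction L U] [Field F] [Module F U] (D : Prim L U F) (h3 : ¬ 3 ∣ Nat.card L)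
    (h4 : D.A.relIndex D.S = 4) (x : L) (s : L) (hs : s ∈ D.S) : x ^ 2 * s * (x ^ 2)⁻¹ * s⁻¹ ∈ D.A := by
  have hAn := D.A_normal
  have hSn := D.S_normal
  set N := D.S.map (QuotientGroup.mk' D.A) with hN
  have hNn : N.Normal := hSn.map _ (QuotientGroup.mk'_surjective _)
  have hcard : Nat.card N = 4 := by
    rw [hN, ← Subgroup.relIndex_ker, QuotientGroup.ker_mk']
    exact h4
  let φ : L →* MulAut N := (MulAut.conjNormal).comp (QuotientGroup.mk' D.A)
  have h6 : Nat.card (MulAut N) ∣ 6 := by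
    have := SmallSimple.KleinFourAut.card_mulAut_dvd N
    rw [hcard] at this
    exact this
  have h7 : orderOf (φ x) ∣ 6 := (orderOf_dvd_natCard _).trans h6
  have h8 : orderOf (φ x) ∣ Nat.card L := (orderOf_map_dvd φ x).trans (orderOf_dvd_natCard x)
  have h9 : orderOf (φ x) ∣ 2 := by
    have h10 : (orderOf (φ x)).Coprime 3 := by
      rw [Nat.coprime_comm, Nat.prime_three.coprime_iff_not_dvd]
      exact fun h => h3 (h.trans h8)
    exact h10.dvd_of_dvd_mul_right (by exact h7 : orderOf (φ x) ∣ 2 * 3)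
  have h10 : φ (x ^ 2) = 1 := by rw [map_pow, orderOf_dvd_iff_pow_eq_one.1 h9]
  have h11 := congrArg Subtype.val (DFunLike.congr_fun h10 (⟨_, Subgroup.mem_map_of_mem _ hs⟩ : N))
  have h12 : ((x ^ 2 : L) : L ⧸ D.A) * (s : L ⧸ D.A) * ((x ^ 2 : L) : L ⧸ D.A)⁻¹ = (s : L ⧸ D.A) := by
    have := MulAut.conjNormal_apply ((x ^ 2 : L) : L ⧸ D.A) (⟨_, Subgroup.mem_map_of_mem _ hs⟩ : N)
    exact this.symm.trans h11
  rw [← QuotientGroup.eq_one_iff]
  rw [QuotientGroup.mk_mul, QuotientGroup.mk_mul, QuotientGroup.mk_mul, QuotientGroup.mk_inv, QuotientGroup.mk_inv, h12,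
    mul_inv_cancel]

/-- the primitive case in dimension two for `3'`-groups -/
theorem prim_three_two {L U : Type u} [Group L] [Finite L] [Group.IsSolvable L] [AddCommGroup U] [Finite U]
    [Nontrivial U] [DistribMulAction L U] {q n : ℕ} (hq : q.Prime) (hU : ∀ u : U, q • u = 0)
    (hn : Nat.card U = q ^ n) (hf : ∀ g : L, (∀ u : U, g • u = u) → g = 1) (hirr : Irr L U) (hI : ¬ Imprim L U)
    (h3 : ¬ 3 ∣ Nat.card L) (h : n ≤ 2) : FH 3 L := by
  obtain ⟨F, hF1, hF2, hF3, ⟨D⟩⟩ := existsPrim L U q hq hU hf hirr hI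
  obtain ⟨Q, m, hN⟩ := Cfsg.Agent.H308.ClsNum.exists_num L U F D
  obtain ⟨s, hs1, hs2, hs3, hs4⟩ := field_facts U F hq hU hn
  have hd : Module.finrank F U ≤ 2 := by
    have : 1 * Module.finrank F U ≤ s * Module.finrank F U := Nat.mul_le_mul_right _ hs1
    omega
  have hQ2 : ∀ r ∈ Q, r = 2 := by
    intro r hr
    obtain ⟨r1, r2, _, r3, r4⟩ := num_facts D hN hr
    have := r1.two_le
    omega
  by_cases h2Q : 2 ∈ Q
  · obtain ⟨r1, r2, r5, r3, r4⟩ := num_facts D hN h2Q
    have hm : m 2 = 1 := by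
      have h1 := hN.one_le 2 h2Q
      have h2 : 2 ^ m 2 ≤ 2 ^ 1 := r5.trans hd
      have h3 := (Nat.pow_le_pow_iff_right (by norm_num : 1 < 2)).1 h2
      omega
    have hQ : Q = {2} := by
      ext r
      rw [Finset.mem_singleton]
      exact ⟨hQ2 r, fun h => h ▸ h2Q⟩
    have h4 : D.A.relIndex D.S = 4 := by
      rw [hN.relIndex, hQ, Finset.prod_singleton, hm]
      norm_num
    have hCn : (Subgroup.centralizer (D.A : Set L)).Normal := by
      rw [← D.σ_ker]
      infer_instance
    have hq1 : FH 1 (L ⧸ Subgroup.centralizer (D.A : Set L)) := fh_quot D _ le_rfl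
    have hSn := D.S_normal
    have hC : FH 2 (Subgroup.centralizer (D.A : Set L)) := by
      refine ⟨D.S.subgroupOf _, inferInstance, ?_, ?_⟩
      · have hSnil := D.isNilpotent_of_le D.S le_rfl
        exact isNilpotent_of_injective (Subgroup.subgroupOfEquivOfLe D.S_le).toMonoidHom
          (Subgroup.subgroupOfEquivOfLe D.S_le).injective hSnil
      · have hsq : ∀ y : (Subgroup.centralizer (D.A : Set L)) ⧸ D.S.subgroupOf (Subgroup.centralizer (D.A : Set L)),
            y ^ 2 = 1 := by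
          intro y
          obtain ⟨x, rfl⟩ := QuotientGroup.mk_surjective y
          rw [← QuotientGroup.mk_pow, QuotientGroup.eq_one_iff, Subgroup.mem_subgroupOf]
          apply D.dual _ (Subgroup.pow_mem _ x.2 2)
          intro s hs
          exact sq_triv D h3 h4 _ s hs
        apply fh_one_of_comm
        intro a b
        have ha : a⁻¹ = a := by rw [inv_eq_iff_mul_eq_one, ← pow_two]; exact hsq a
        have hb : b⁻¹ = b := by rw [inv_eq_iff_mul_eq_one, ← pow_two]; exact hsq b
        have hab : (a * b)⁻¹ = a * b := by rw [inv_eq_iff_mul_eq_one, ← pow_two]; exact hsq _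
        rw [← hab, mul_inv_rev, ha, hb]
    exact FH.extension (s := 2) (t := 1) _ hC hq1
  · have hQ : Q = ∅ := by
      rw [Finset.eq_empty_iff_forall_notMem]
      intro r hr
      exact h2Q (hQ2 r hr ▸ hr)
    exact (fh_two_of_le D (S_le_of_empty D hN hQ)).succ

end Cfsg.Agent.H273.RC
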